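import Mathlib

/-!
The alternating group on a subset, inside the symmetric group of the whole set.
-/

set_option autoImplicit false
set_option linter.unusedSectionVars false

namespace Cfsg.Agent.Fus.NatSL

open Equiv

variable {α : Type*} [Fintype α] [DecidableEq α]

/-- Even permutations supported in a finset. -/
def altOn (S : Finset α) : Subgroup (Equiv.Perm α) where
  carrier := {σ | Equiv.Perm.sign σ = 1 ∧ ∀ x, x ∉ S → σ x = x}
  one_mem' := ⟨map_one _, fun _ _ => rfl⟩
  mul_mem' := by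
    rintro σ τ ⟨a, a'⟩ ⟨b, b'⟩
    exact ⟨by rw [map_mul, a, b, one_mul], fun x hx => by rw [Perm.mul_apply, b' x hx, a' x hx]⟩
  inv_mem' := by
    rintro σ ⟨a, a'⟩
    exact ⟨by rw [map_inv, a, inv_one], fun x hx => by rw [Perm.inv_eq_iff_eq, a' x hx]⟩

theorem mem_altOn {S : Finset α} {σ : Equiv.Perm α} :
    σ ∈ altOn S ↔ Equiv.Perm.sign σ = 1 ∧ ∀ x, x ∉ S → σ x = x := Iff.rfl

theorem altOn_eq_map (S : Finset α) :
    altOn S = (alternatingGroup {x // x ∈ S}).map (Equiv.Perm.ofSubtype) := by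
  ext σ
  constructor
  · rintro ⟨h1, h2⟩
    have hp : ∀ x, σ x ∈ S ↔ x ∈ S := by
      intro x
      constructor
      · intro h
        by_contra hx
        exact hx (h2 x hx ▸ h)
      · intro h
        by_contra hx
        have := σ.injective (h2 (σ x) hx)
        exact hx (this.symm ▸ h)
    refine ⟨σ.subtypePerm hp, ?_, Equiv.Perm.ofSubtype_subtypePerm hp fun x hx => ?_⟩
    · rw [SetLike.mem_coe, Equiv.Perm.mem_alternatingGroup, ← Equiv.Perm.sign_ofSubtype,
        Equiv.Perm.ofSubtype_subtypePerm hp fun x hx => ?_, h1]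
      by_contra h
      exact hx (h2 x h)
    · by_contra h
      exact hx (h2 x h)
  · rintro ⟨τ, hτ, rfl⟩
    refine ⟨?_, fun x hx => Equiv.Perm.ofSubtype_apply_of_not_mem τ hx⟩
    rw [Equiv.Perm.sign_ofSubtype]
    exact hτ

/-- The alternating group on a subset as an abstract group. -/
noncomputable def altOnEquiv (S : Finset α) {n : ℕ} (h : S.card = n) : altOn S ≃* alternatingGroup (Fin n) :=
  ((MulEquiv.subgroupCongr (altOn_eq_map S)).trans
    ((alternatingGroup {x // x ∈ S}).equivMapOfInjective _ Equiv.Perm.ofSubtype_injective).symm).trans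
    (Equiv.altCongrHom (Fintype.equivFinOfCardEq (by rw [Fintype.card_coe, h])))

theorem card_altOn (S : Finset α) (h : 2 ≤ S.card) : Nat.card (altOn S) = S.card.factorial / 2 := by
  haveI : Nontrivial (Fin S.card) := Fin.nontrivial_iff_two_le.mpr h
  rw [Nat.card_congr (altOnEquiv S rfl).toEquiv, nat_card_alternatingGroup, Nat.card_fin]

theorem altOn_mono {S T : Finset α} (h : S ⊆ T) : altOn S ≤ altOn T :=
  fun _ hσ => ⟨hσ.1, fun x hx => hσ.2 x fun hS => hx (h hS)⟩

theorem three_mem {S : Finset α} {a b c : α} (ha : a ∈ S) (hb : b ∈ S) (hc : c ∈ S) (hab : a ≠ b) (hac : a ≠ c) :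
    Equiv.swap a b * Equiv.swap a c ∈ altOn S := by
  refine ⟨by rw [map_mul, Equiv.Perm.sign_swap hab, Equiv.Perm.sign_swap hac]; rfl, fun x hx => ?_⟩
  have h1 : x ≠ a := fun h => hx (h ▸ ha)
  have h2 : x ≠ b := fun h => hx (h ▸ hb)
  have h3 : x ≠ c := fun h => hx (h ▸ hc)
  rw [Perm.mul_apply, Equiv.swap_apply_of_ne_of_ne h1 h3, Equiv.swap_apply_of_ne_of_ne h1 h2]

/-- A subgroup containing the alternating groups on two sets with two common points contains the one on the union. -/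
theorem altOn_union_le {K : Subgroup (Equiv.Perm α)} {S T : Finset α} (hS : altOn S ≤ K) (hT : altOn T ≤ K)
    {a b : α} (hab : a ≠ b) (haS : a ∈ S) (hbS : b ∈ S) (haT : a ∈ T) (hbT : b ∈ T) : altOn (S ∪ T) ≤ K := by
  have hgen : ∀ x ∈ S ∪ T, x ≠ a → x ≠ b →
      Equiv.swap a b * Equiv.swap a x ∈ K ∧ Equiv.swap a b * Equiv.swap a x ∈ altOn (S ∪ T) := by
    intro x hx hxa hxb
    refine ⟨?_, three_mem (Finset.mem_union_left _ haS) (Finset.mem_union_left _ hbS) hx hab hxa.symm⟩
    rcases Finset.mem_union.mp hx with h | h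
    · exact hS (three_mem haS hbS h hab hxa.symm)
    · exact hT (three_mem haT hbT h hab hxa.symm)
  suffices key : ∀ R : Finset α, ∀ σ ∈ altOn (S ∪ T),
      (∀ x, x ≠ a → x ≠ b → x ∉ R → σ x = x) → σ ∈ K by
    exact fun σ hσ => key (S ∪ T) σ hσ fun x _ _ hx => hσ.2 x hx
  intro R
  induction R using Finset.induction with
  | empty =>
    intro σ hσ h
    have hsupp : σ.support ⊆ {a, b} := by
      intro x hx
      rw [Equiv.Perm.mem_support] at hx
      by_contra hcon
      simp only [Finset.mem_insert, Finset.mem_singleton, not_or] at hcon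
      exact hx (h x hcon.1 hcon.2 (Finset.notMem_empty x))
    by_cases h2 : σ.support.card = 2
    · obtain ⟨x, y, hxy, rfl⟩ := Equiv.Perm.card_support_eq_two.mp h2
      have hs := hσ.1
      rw [Equiv.Perm.sign_swap hxy] at hs
      exact absurd hs (by decide)
    · have h3 : σ.support.card ≤ 2 := (Finset.card_le_card hsupp).trans Finset.card_le_two
      have h4 : σ.support.card ≠ 1 := Equiv.Perm.card_support_ne_one σ
      have h5 : σ = 1 := Equiv.Perm.card_support_eq_zero.mp (by omega)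
      rw [h5]; exact K.one_mem
  | insert x R hxR ih =>
    intro σ hσ h
    by_cases hx : x = a ∨ x = b
    · refine ih σ hσ fun y h1 h2 h3 => h y h1 h2 ?_
      rw [Finset.mem_insert, not_or]
      refine ⟨fun e => ?_, h3⟩
      rcases hx with rfl | rfl
      · exact h1 e
      · exact h2 e
    push Not at hx
    obtain ⟨hxa, hxb⟩ := hx
    by_cases hfix : σ x = x
    · refine ih σ hσ fun y h1 h2 h3 => ?_
      by_cases e : y = x
      · rw [e, hfix]
      · exact h y h1 h2 (by simp [e, h3])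
    have hxU : x ∈ S ∪ T := by
      by_contra hc
      exact hfix (hσ.2 x hc)
    obtain ⟨y, hy⟩ : ∃ y, σ x = y := ⟨_, rfl⟩
    have hyU : y ∈ S ∪ T := by
      by_contra hc
      exact hfix (σ.injective (by rw [hy, hσ.2 y hc]))
    obtain ⟨cx, hcx⟩ : ∃ cx, cx = Equiv.swap a b * Equiv.swap a x := ⟨_, rfl⟩
    obtain ⟨hcK, hcU⟩ := hgen x hxU hxa hxb
    rw [← hcx] at hcK hcU
    have c1 : cx a = x := by
      rw [hcx, Perm.mul_apply, Equiv.swap_apply_left, Equiv.swap_apply_of_ne_of_ne hxa hxb]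
    have c2 : cx b = a := by
      rw [hcx, Perm.mul_apply, Equiv.swap_apply_of_ne_of_ne hab.symm (Ne.symm hxb), Equiv.swap_apply_right]
    have c3 : ∀ z, z ≠ a → z ≠ b → z ≠ x → cx z = z := fun z z1 z2 z3 => by
      rw [hcx, Perm.mul_apply, Equiv.swap_apply_of_ne_of_ne z1 z3, Equiv.swap_apply_of_ne_of_ne z1 z2]
    -- an element carrying `y` back to `x`
    obtain ⟨τ, hτK, hτU, hτy, hτz⟩ : ∃ τ, τ ∈ K ∧ τ ∈ altOn (S ∪ T) ∧ τ y = x ∧
        ∀ z, z ≠ a → z ≠ b → z ≠ x → z ≠ y → τ z = z := by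
      by_cases hya : y = a
      · exact ⟨cx, hcK, hcU, by rw [hya, c1], fun z z1 z2 z3 _ => c3 z z1 z2 z3⟩
      by_cases hyb : y = b
      · exact ⟨cx * cx, mul_mem hcK hcK, mul_mem hcU hcU, by rw [hyb, Perm.mul_apply, c2, c1],
          fun z z1 z2 z3 _ => by rw [Perm.mul_apply, c3 z z1 z2 z3, c3 z z1 z2 z3]⟩
      obtain ⟨hdK, hdU⟩ := hgen y hyU hya hyb
      have d1 : (Equiv.swap a b * Equiv.swap a y) y = b := by
        rw [Perm.mul_apply, Equiv.swap_apply_right, Equiv.swap_apply_left]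
      refine ⟨cx * cx * (Equiv.swap a b * Equiv.swap a y), mul_mem (mul_mem hcK hcK) hdK,
        mul_mem (mul_mem hcU hcU) hdU, by rw [Perm.mul_apply, d1, Perm.mul_apply, c2, c1],
        fun z z1 z2 z3 z4 => ?_⟩
      have d3 : (Equiv.swap a b * Equiv.swap a y) z = z := by
        rw [Perm.mul_apply, Equiv.swap_apply_of_ne_of_ne z1 z4, Equiv.swap_apply_of_ne_of_ne z1 z2]
      rw [Perm.mul_apply, d3, Perm.mul_apply, c3 z z1 z2 z3, c3 z z1 z2 z3]
    have h' := ih (τ * σ) (mul_mem hτU hσ) fun z z1 z2 z3 => ?_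
    · have := mul_mem (inv_mem hτK) h'
      rwa [inv_mul_cancel_left] at this
    · by_cases e : z = x
      · rw [e, Perm.mul_apply, hy, hτy]
      have hz : σ z = z := h z z1 z2 (by simp [e, z3])
      rw [Perm.mul_apply, hz]
      exact hτz z z1 z2 e fun e' => e (σ.injective (by rw [hz, hy, e']))

theorem conj_mem_altOn {S : Finset α} {σ τ : Equiv.Perm α} (h : τ ∈ altOn S) :
    σ * τ * σ⁻¹ ∈ altOn (S.image σ) := by
  refine ⟨by rw [map_mul, map_mul, h.1, mul_one, ← map_mul, mul_inv_cancel, map_one], fun x hx => ?_⟩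
  rw [Perm.mul_apply, Perm.mul_apply, h.2 (σ⁻¹ x) fun hc => hx (Finset.mem_image.mpr ⟨_, hc, by simp⟩)]
  simp

theorem altOn_image_le {K : Subgroup (Equiv.Perm α)} {S : Finset α} (hS : altOn S ≤ K) {σ : Equiv.Perm α}
    (hσ : σ ∈ K) : altOn (S.image σ) ≤ K := by
  intro τ hτ
  have h : σ⁻¹ * τ * σ⁻¹⁻¹ ∈ altOn S := by
    have := conj_mem_altOn (σ := σ⁻¹) hτ
    rw [Finset.image_image] at this
    simpa using this
  have h2 := mul_mem (mul_mem hσ (hS h)) (inv_mem hσ)
  simpa [mul_assoc] using h2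

end Cfsg.Agent.Fus.NatSL
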