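import Mathlib
import Cfsg.Agent.Lib.Fus.NatSL.Axes
import Cfsg.Agent.Lib.Classical.PSLAutStructure

/-!
A Sylow subgroup in the normaliser of `SL(2, F)`: semilinear elements, its linear part, and the position of
root elements in it.
-/

set_option autoImplicit false
set_option linter.unusedSectionVars false

namespace Cfsg.Agent.Fus.NatSL

open Matrix Cfsg.Agent.Grp

universe u v

variable {F : Type u} [Field F] {Γ : Type v} [Group Γ] (H : Setup F Γ)

local notation "M" => (Fin 2 → F)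

/-- Semilinear with the given field automorphism. -/
def IsSemi (x : Γ) (τ : F ≃+* F) : Prop := ∀ (c : F) (v : M), H.ρ x (c • v) = τ c • H.ρ x v

theorem IsSemi.mul {x y : Γ} {σ τ : F ≃+* F} (hx : IsSemi H x σ) (hy : IsSemi H y τ) :
    IsSemi H (x * y) (τ.trans σ) := fun c v => by
  rw [act_mul, act_mul, hy, hx]; rfl

theorem IsSemi.inv {x : Γ} {σ : F ≃+* F} (hx : IsSemi H x σ) : IsSemi H x⁻¹ σ.symm := fun c v => by
  refine (Function.LeftInverse.injective (fun w => act_inv H x w) : Function.Injective (H.ρ x)) ?_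
  rw [act_inv', hx, σ.apply_symm_apply, act_inv']

theorem IsSemi.one : IsSemi H (1 : Γ) (RingEquiv.refl F) := fun c v => by
  rw [act_one, act_one]; rfl

theorem IsSemi.unique {x : Γ} {σ τ : F ≃+* F} (hx : IsSemi H x σ) (hy : IsSemi H x τ) : σ = τ := by
  refine RingEquiv.ext fun c => ?_
  have hne : ∀ y : M, H.ρ x y = 0 → y = 0 := fun y h => by
    have := congrArg (H.ρ x⁻¹) h
    rwa [act_inv, map_zero] at this
  by_contra h
  have e : (σ c - τ c) • H.ρ x ![1, 0] = 0 := by rw [sub_smul, ← hx, ← hy, sub_self]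
  rcases smul_eq_zero.mp e with e' | e'
  · exact h (sub_eq_zero.mp e')
  · exact one_ne_zero (congrFun (hne _ e') 0)

theorem isSemi_ι (A : Matrix.SpecialLinearGroup (Fin 2) F) : IsSemi H (H.ι A) (RingEquiv.refl F) := fun c v => by
  rw [H.spec, H.spec, Matrix.mulVec_smul]; rfl

/-- The linear elements. -/
def linear : Subgroup Γ where
  carrier := {x | IsSemi H x (RingEquiv.refl F)}
  one_mem' := IsSemi.one H
  mul_mem' := fun hx hy => hx.mul H hy
  inv_mem' := fun hx => hx.inv H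

/-- The matrix of a linear element. -/
noncomputable def linHom : linear H →* GL (Fin 2) F :=
  MonoidHom.toHomUnits
    { toFun := fun x => LinearMap.toMatrix'
        { toFun := fun v => H.ρ (x : Γ) v
          map_add' := map_add _
          map_smul' := fun c v => x.2 c v }
      map_one' := by
        rw [← LinearMap.toMatrix'_id]
        exact congrArg _ (LinearMap.ext fun v => act_one H v)
      map_mul' := fun x y => by
        rw [← LinearMap.toMatrix'_comp]
        exact congrArg _ (LinearMap.ext fun v => act_mul H (x : Γ) y v) }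

theorem linHom_injective : Function.Injective (linHom H) := by
  intro x y e
  refine Subtype.ext (ext_act H fun v => ?_)
  have h := congrArg (Units.val) e
  simp only [linHom, MonoidHom.coe_toHomUnits, MonoidHom.coe_mk, OneHom.coe_mk] at h
  exact LinearMap.congr_fun (LinearMap.toMatrix'.injective h) v

variable [Fintype F] [Finite Γ] (p : ℕ) [Fact p.Prime] [CharP F p]

theorem U_pGroup : IsPGroup p (U H) := fun x => ⟨1, Subtype.ext (by
  obtain ⟨c, hc⟩ := (mem_U H).mp x.2
  rw [pow_one, Subgroup.coe_pow, ← hc]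
  by_cases h : c = 0
  · rw [h, u_zero]; exact one_pow p
  exact pow_eq_one_of_flag H p (A := W0 F) (fun v hv => (fix_u H h v).mpr hv) fun v => by
    rw [← ax_u H h]; exact ⟨v, rfl⟩)⟩

theorem U_le_range : U H ≤ H.ι.range := fun x hx => by
  obtain ⟨c, hc⟩ := (mem_U H).mp hx
  exact ⟨SL2.up c, hc⟩

theorem exists_sylow (hsyl : ∀ S : Sylow p ↥(Subgroup.normalizer (H.ι.range : Set Γ)), ∀ Q : Sylow p Γ,
      Nat.card S = Nat.card Q) :
    ∃ P : Sylow p Γ, U H ≤ P ∧ (P : Subgroup Γ) ≤ Subgroup.normalizer (H.ι.range : Set Γ) := by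
  obtain ⟨N, hN⟩ : ∃ N, N = Subgroup.normalizer (H.ι.range : Set Γ) := ⟨_, rfl⟩
  rw [← hN] at hsyl ⊢
  have hUN : U H ≤ N := hN ▸ (U_le_range H).trans Subgroup.le_normalizer
  obtain ⟨S, hS⟩ := ((U_pGroup H p).of_equiv (Subgroup.subgroupOfEquivOfLe hUN).symm).exists_le_sylow
  have hp : IsPGroup p ((S : Subgroup N).map N.subtype) := S.2.map _
  obtain ⟨Q, hQ⟩ := hp.exists_le_sylow
  have hcard : Nat.card ((S : Subgroup N).map N.subtype) = Nat.card Q := by
    rw [Subgroup.card_map_of_injective N.subtype_injective, hsyl S Q]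
  have e : (S : Subgroup N).map N.subtype = (Q : Subgroup Γ) :=
    Subgroup.eq_of_le_of_card_ge hQ hcard.ge
  refine ⟨Q, ?_, e ▸ Subgroup.map_subtype_le _⟩
  rw [← e]
  intro x hx
  exact ⟨⟨x, hUN hx⟩, hS (Subgroup.mem_subgroupOf.mpr hx), rfl⟩

variable {p}

theorem semi_of_mem {P : Subgroup Γ} (hPN : P ≤ Subgroup.normalizer (H.ι.range : Set Γ)) {x : Γ} (hx : x ∈ P) :
    ∃ τ, IsSemi H x τ := by
  refine exists_semilinear H fun A => ?_
  obtain ⟨B, hB⟩ := (Subgroup.mem_normalizer_iff.mp (hPN hx) (H.ι A)).mp ⟨A, rfl⟩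
  exact ⟨B, by rw [hB]; group⟩

/-- The linear elements of the Sylow subgroup form the root subgroup. -/
theorem mem_U_of_linear (P : Sylow p Γ) (hU : U H ≤ P) {x : Γ} (hx : x ∈ (P : Subgroup Γ))
    (hl : IsSemi H x (RingEquiv.refl F)) : x ∈ U H := by
  obtain ⟨e, -, he⟩ := FiniteField.card F p
  have hle : U H ≤ (P : Subgroup Γ) ⊓ linear H := le_inf hU fun y hy => by
    obtain ⟨c, hc⟩ := (mem_U H).mp hy
    rw [← hc]
    exact isSemi_ι H _
  have hpg : IsPGroup p ↥((P : Subgroup Γ) ⊓ linear H) := P.2.to_le inf_le_left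
  obtain ⟨n, hn⟩ := IsPGroup.iff_card.mp hpg
  have hdvd : Nat.card ↥((P : Subgroup Γ) ⊓ linear H) ∣ Nat.card (GL (Fin 2) F) := by
    have h1 := Subgroup.card_dvd_of_le (inf_le_right : (P : Subgroup Γ) ⊓ linear H ≤ linear H)
    exact h1.trans (Subgroup.card_dvd_of_injective _ (linHom_injective H))
  rw [hn, Matrix.card_GL_field, Fin.prod_univ_two, he] at hdvd
  have h1 : ((p ^ (e : ℕ)) ^ 2 - (p ^ (e : ℕ)) ^ (0 : ℕ)) * ((p ^ (e : ℕ)) ^ 2 - (p ^ (e : ℕ)) ^ (1 : ℕ)) =
      (((p ^ (e : ℕ)) ^ 2 - 1) * (p ^ (e : ℕ) - 1)) * p ^ (e : ℕ) := by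
    rw [pow_zero, pow_one, mul_assoc]
    congr 1
    rw [Nat.sub_mul, one_mul, pow_two]
  simp only [Fin.val_zero, Fin.val_one] at hdvd
  rw [h1] at hdvd
  have hco : (p ^ n).Coprime (((p ^ (e : ℕ)) ^ 2 - 1) * (p ^ (e : ℕ) - 1)) := by
    have hp : p.Prime := Fact.out
    have key : ∀ m : ℕ, 1 ≤ m → ¬ p ∣ p ^ m - 1 := fun m hm h => by
      have h2 : p ∣ p ^ m := dvd_pow_self p (by omega)
      have h3 : 1 ≤ p ^ m := Nat.one_le_pow _ _ hp.pos
      have h4 := Nat.dvd_sub h2 h
      rw [Nat.sub_sub_self h3, Nat.dvd_one] at h4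
      exact hp.ne_one h4
    refine Nat.Coprime.pow_left n ((hp.coprime_iff_not_dvd).mpr fun h => ?_)
    rcases hp.dvd_mul.mp h with h | h
    · rw [← pow_mul] at h
      exact key _ (by have := e.pos; omega) h
    · exact key _ e.pos h
  have heq : U H = (P : Subgroup Γ) ⊓ linear H := by
    refine Subgroup.eq_of_le_of_card_ge hle ?_
    rw [hn, card_U, Nat.card_eq_fintype_card, he]
    exact Nat.le_of_dvd (pow_pos (Fact.out : p.Prime).pos _) (hco.dvd_of_dvd_mul_left hdvd)
  rw [heq]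
  exact ⟨hx, hl⟩

/-- In odd characteristic the root elements of the Sylow subgroup lie in the root subgroup. -/
theorem good_of_odd (hp : p ≠ 2) (P : Sylow p Γ) (hU : U H ≤ P)
    (hPN : (P : Subgroup Γ) ≤ Subgroup.normalizer (H.ι.range : Set Γ)) : Good H p P := by
  refine ⟨hU, fun x hx hr => ?_⟩
  obtain ⟨τ, hτ⟩ := semi_of_mem H hPN hx
  refine mem_U_of_linear H P hU hx fun c v => ?_
  have h2 : (2 : F) ≠ 0 := Ring.two_ne_zero (by rwa [ringChar.eq F p])
  have hdd : ∀ w, H.ρ x (H.ρ x w - w) = H.ρ x w - w := fun w => (fix_root H hr _).mpr ⟨w, rfl⟩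
  have hker : ∀ w, diff H x (diff H x w) = 0 := fun w => by
    rw [diff_apply, diff_apply, hdd, sub_self]
  have hd : ∀ (a : F) (w : M), diff H x (a • w) = τ a • diff H x w + (τ a - a) • w := fun a w => by
    rw [diff_apply, diff_apply, hτ, smul_sub, sub_smul]; abel
  have key : ∀ (a : F) (w : M),
      (2 * (τ (τ a) - τ a)) • diff H x w + (τ (τ a) - 2 * τ a + a) • w = 0 := by
    intro a w
    have h := hker (a • w)
    rw [hd a w, map_add, hd, hd, hker, smul_zero, zero_add, map_sub] at h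
    rw [← h]
    module
  have hne : ∃ w, diff H x w ≠ 0 := by
    by_contra hcon
    push Not at hcon
    exact hr.ne_one H (ext_act H fun w => by rw [act_one]; exact sub_eq_zero.mp (hcon w))
  obtain ⟨w, hw⟩ := hne
  have e1 : ∀ a : F, τ (τ a) - 2 * τ a + a = 0 := fun a => by
    have h := key a (diff H x w)
    rw [hker, smul_zero, zero_add] at h
    exact (smul_eq_zero.mp h).resolve_right hw
  have e2 : τ c = c := by
    have h := key c w
    rw [e1, zero_smul, add_zero] at h
    have h3 := (mul_eq_zero.mp ((smul_eq_zero.mp h).resolve_right hw)).resolve_left h2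
    exact τ.injective (sub_eq_zero.mp h3)
  rw [hτ, e2]
  rfl

theorem eq_one_or_eq_of_sq (p : ℕ) [Fact p.Prime] [CharP F p] (σ₁ σ₂ : F ≃+* F) (h1 : σ₁ * σ₁ = 1) (h2 : σ₂ * σ₂ = 1) (n1 : σ₁ ≠ 1) :
    σ₂ = 1 ∨ σ₂ = σ₁ := by
  classical
  obtain ⟨e, -, he⟩ := FiniteField.card F p
  obtain ⟨hcyc, hc⟩ := Classical.PSLAut.card_ringAut (F := F) (p := p) he
  haveI : Finite (RingAut F) := Nat.finite_of_card_ne_zero (by rw [hc]; exact e.pos.ne')
  haveI := Fintype.ofFinite (RingAut F)
  have h := IsCyclic.card_pow_eq_one_le (α := RingAut F) (n := 2) two_pos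
  by_contra hcon
  push Not at hcon
  have hsub : ({1, σ₁, σ₂} : Finset (RingAut F)) ⊆ Finset.univ.filter fun a : RingAut F => a ^ 2 = 1 := by
    intro a ha
    simp only [Finset.mem_insert, Finset.mem_singleton] at ha
    refine Finset.mem_filter.mpr ⟨Finset.mem_univ _, ?_⟩
    rcases ha with rfl | rfl | rfl
    · exact one_pow 2
    · rw [sq]; exact h1
    · rw [sq]; exact h2
  have h3 : ({1, σ₁, σ₂} : Finset (RingAut F)).card = 3 :=
    Finset.card_eq_three.mpr ⟨_, _, _, n1.symm, hcon.1.symm, hcon.2.symm, rfl⟩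
  have := Finset.card_le_card hsub
  omega

end Cfsg.Agent.Fus.NatSL
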