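import Mathlib
import Cfsg.Agent.Lib.Fus.NatSL.Semi

/-!
In characteristic two, over a field with at least eight elements, no root element of the Sylow subgroup is
properly semilinear.
-/

set_option autoImplicit false
set_option linter.unusedSectionVars false

namespace Cfsg.Agent.Fus.NatSL

open Matrix Cfsg.Agent.Grp

universe u v

variable {F : Type u} [Field F] [Fintype F] [CharP F 2] {Γ : Type v} [Group Γ] [Finite Γ] (H : Setup F Γ)

local notation "M" => (Fin 2 → F)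

theorem add_self_zero (a : F) : a + a = 0 := CharTwo.add_self_eq_zero a

/-- The diagonal element. -/
def dSL (μ : F) (hμ : μ ≠ 0) : Matrix.SpecialLinearGroup (Fin 2) F :=
  ⟨!![μ, 0; 0, μ⁻¹], by simp [Matrix.det_fin_two, hμ]⟩

theorem diag_conj (μ : F) (hμ : μ ≠ 0) (c : F) :
    ∃ a : Γ, a * u H c * a⁻¹ = u H (μ ^ 2 * c) := by
  refine ⟨H.ι (dSL μ hμ), ?_⟩
  rw [mul_inv_eq_iff_eq_mul, u, u, ← map_mul, ← map_mul]
  refine congrArg _ (Subtype.ext ?_)
  simp only [Matrix.SpecialLinearGroup.coe_mul]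
  show !![μ, 0; 0, μ⁻¹] * (!![1, c; 0, 1] : Matrix (Fin 2) (Fin 2) F) = !![1, μ ^ 2 * c; 0, 1] * !![μ, 0; 0, μ⁻¹]
  ext i j
  fin_cases i <;> fin_cases j <;> simp [Matrix.mul_apply, Fin.sum_univ_two]
  field_simp

theorem exists_sq (a : F) : ∃ μ, μ ^ 2 = a :=
  (bijective_frobenius F 2).2 a

theorem isSquare_ratio {c d : F} (hc : c ≠ 0) (hd : d ≠ 0) : ∃ μ : F, μ ≠ 0 ∧ μ ^ 2 * c = d := by
  obtain ⟨μ, hμ⟩ := exists_sq (d / c)
  refine ⟨μ, fun h => ?_, by rw [hμ, div_mul_cancel₀ _ hc]⟩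
  rw [h, zero_pow two_ne_zero] at hμ
  exact div_ne_zero hd hc hμ.symm

/-- The Sylow subgroup is good. -/
theorem good_of_two (P : Sylow 2 Γ) (hU : U H ≤ P)
    (hPN : (P : Subgroup Γ) ≤ Subgroup.normalizer (H.ι.range : Set Γ)) (h8 : 8 ≤ Fintype.card F) :
    Good H 2 P := by
  classical
  refine ⟨hU, fun s hs hr => ?_⟩
  by_contra hsU
  obtain ⟨τs, hτs⟩ := semi_of_mem H hPN hs
  have hnl : τs ≠ RingEquiv.refl F := fun h => hsU (mem_U_of_linear H P hU hs (h ▸ hτs))
  have hUn : ∀ y ∈ (P : Subgroup Γ), ∀ x ∈ U H, y * x * y⁻¹ ∈ U H := by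
    intro y hy x hx
    obtain ⟨τ, hτ⟩ := semi_of_mem H hPN hy
    obtain ⟨c, hc⟩ := (mem_U H).mp hx
    refine mem_U_of_linear H P hU (mul_mem (mul_mem hy (hU hx)) (inv_mem hy)) ?_
    intro a v
    have h := ((hτ.mul H (show IsSemi H x (RingEquiv.refl F) by rw [← hc]; exact isSemi_ι H _)).mul H (hτ.inv H)) a v
    rw [h]
    simp
  -- a central element of the root subgroup
  obtain ⟨N, hN⟩ : ∃ N, N = (U H).subgroupOf (P : Subgroup Γ) := ⟨_, rfl⟩
  haveI : N.Normal := hN ▸ ⟨fun x hx y => Subgroup.mem_subgroupOf.mpr (by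
    simpa using hUn _ y.2 _ (Subgroup.mem_subgroupOf.mp hx))⟩
  have hPc : IsPGroup 2 (ConjAct ↥(P : Subgroup Γ)) := P.2.of_equiv ConjAct.toConjAct
  have hNc : Nat.card N = Nat.card F := by
    rw [hN, Nat.card_congr (Subgroup.subgroupOfEquivOfLe hU).toEquiv, card_U]
  have h2N : 2 ∣ Nat.card N := by
    obtain ⟨e, -, he⟩ := FiniteField.card F 2
    rw [hNc, Nat.card_eq_fintype_card, he]
    exact dvd_pow_self 2 e.pos.ne'
  obtain ⟨a, ha, ha1⟩ := hPc.exists_fixed_point_of_prime_dvd_card_of_fixed_point N h2N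
    (a := 1) (fun g => smul_one g)
  obtain ⟨d, hd⟩ := (mem_U H).mp (Subgroup.mem_subgroupOf.mp (hN ▸ a.2 : (a : ↥(P : Subgroup Γ)) ∈ _))
  have hd0 : d ≠ 0 := fun h => ha1 (by
    refine (Subtype.ext (Subtype.ext ?_)).symm
    rw [h, u_zero] at hd
    exact hd.symm)
  have hcen : ∀ y ∈ (P : Subgroup Γ), y * u H d = u H d * y := by
    intro y hy
    have h := congrArg (fun z : N => (z : ↥(P : Subgroup Γ)).1) (ha (ConjAct.toConjAct ⟨y, hy⟩))
    have h' : y * (a : ↥(P : Subgroup Γ)).1 * y⁻¹ = (a : ↥(P : Subgroup Γ)).1 := h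
    rw [← hd] at h'
    exact mul_inv_eq_iff_eq_mul.mp h'
  -- move `s` to the central element
  obtain ⟨g0, c, hc, hs0⟩ := hr
  obtain ⟨μ, hμ, hμc⟩ := isSquare_ratio hc hd0
  obtain ⟨t, ht⟩ := diag_conj H μ hμ c
  rw [hμc] at ht
  obtain ⟨g1, hg1⟩ : ∃ g1, g1 = t * g0⁻¹ := ⟨_, rfl⟩
  have hg1s : g1 * s * g1⁻¹ = u H d := by
    rw [← ht, hg1, hs0]; group
  obtain ⟨C, hC⟩ : ∃ C, C = Subgroup.centralizer ({u H d} : Set Γ) := ⟨_, rfl⟩
  have hPC : (P : Subgroup Γ) ≤ C := by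
    rw [hC]
    exact fun y hy => Subgroup.mem_centralizer_singleton_iff.mpr (hcen y hy)
  obtain ⟨D, hD⟩ : ∃ D, D = ((P : Subgroup Γ) ⊓ Subgroup.centralizer ({s} : Set Γ)).map (MulAut.conj g1).toMonoidHom :=
    ⟨_, rfl⟩
  have hDp : IsPGroup 2 D := hD ▸ (P.2.to_le inf_le_left).map _
  have hDC : D ≤ C := by
    rw [hD, hC]
    rintro _ ⟨y, hy, rfl⟩
    refine Subgroup.mem_centralizer_singleton_iff.mpr ?_
    rw [← hg1s]
    simp only [MulEquiv.coe_toMonoidHom, MulAut.conj_apply]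
    have h := Subgroup.mem_centralizer_singleton_iff.mp hy.2
    calc _ = g1 * (y * s) * g1⁻¹ := by group
      _ = g1 * (s * y) * g1⁻¹ := by rw [h]
      _ = _ := by group
  obtain ⟨Q, hQ⟩ := (hDp.of_equiv (Subgroup.subgroupOfEquivOfLe hDC).symm).exists_le_sylow
  obtain ⟨h, hh⟩ := MulAction.exists_smul_eq C Q (P.subtype hPC)
  obtain ⟨g, hg⟩ : ∃ g, g = (h : Γ) * g1 := ⟨_, rfl⟩
  have hgs : g * s * g⁻¹ = u H d := by
    have h2 : (h : Γ) * u H d = u H d * (h : Γ) := by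
      have : (h : Γ) ∈ Subgroup.centralizer ({u H d} : Set Γ) := hC.le h.2
      rw [Subgroup.mem_centralizer_singleton_iff] at this
      exact this
    calc g * s * g⁻¹ = (h : Γ) * (g1 * s * g1⁻¹) * (h : Γ)⁻¹ := by rw [hg]; group
      _ = u H d := by rw [hg1s, h2, mul_inv_cancel_right]
  have hgP : ∀ y ∈ (P : Subgroup Γ), y * s = s * y → g * y * g⁻¹ ∈ (P : Subgroup Γ) := by
    intro y hy hys
    have hyD : g1 * y * g1⁻¹ ∈ D :=
      hD ▸ ⟨y, ⟨hy, Subgroup.mem_centralizer_singleton_iff.mpr hys⟩, rfl⟩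
    have h1 : (⟨g1 * y * g1⁻¹, hDC hyD⟩ : C) ∈ (Q : Subgroup C) := hQ (Subgroup.mem_subgroupOf.mpr hyD)
    have h2 : h * ⟨g1 * y * g1⁻¹, hDC hyD⟩ * h⁻¹ ∈ ((P.subtype hPC : Sylow 2 C) : Subgroup C) := by
      rw [← hh, Sylow.coe_subgroup_smul, Subgroup.mem_smul_pointwise_iff_exists]
      exact ⟨_, h1, rfl⟩
    rw [Sylow.coe_subtype, Subgroup.mem_subgroupOf] at h2
    convert h2 using 1
    rw [hg]
    simp [mul_assoc]
  -- the centraliser of `s` in the root subgroup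
  have hs2 : s * s = 1 := by
    have h : (u H c) * (u H c) = 1 := by rw [← u_add, add_self_zero, u_zero]
    rw [hs0]
    calc _ = g0 * (u H c * u H c) * g0⁻¹ := by group
      _ = 1 := by rw [h]; group
  have hπ0 : ∀ a, ∃ b, s * u H a * s⁻¹ = u H b := fun a => by
    obtain ⟨b, hb⟩ := (mem_U H).mp (hUn s hs _ (u_mem H a))
    exact ⟨b, hb.symm⟩
  choose π hπ using hπ0
  have hπadd : ∀ a b, π (a + b) = π a + π b := fun a b => u_injective H (by
    rw [u_add, ← hπ, ← hπ, ← hπ, u_add]; group)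
  have hππ : ∀ a, π (π a) = a := fun a => u_injective H (by
    rw [← hπ, ← hπ, ← mul_assoc, ← mul_assoc, hs2, one_mul, mul_assoc, ← _root_.mul_inv_rev, hs2, inv_one, mul_one])
  let δ : F →+ F := AddMonoidHom.mk' (fun a => π a + a) fun a b => by rw [hπadd]; abel
  have hδ : δ.range ≤ δ.ker := by
    rintro _ ⟨a, rfl⟩
    show π (π a + a) + (π a + a) = 0
    rw [hπadd, hππ, add_comm a (π a), add_self_zero]
  have hcard : Nat.card F ≤ Nat.card δ.ker * Nat.card δ.ker := by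
    have h1 : Nat.card δ.ker * Nat.card δ.range = Nat.card F := by
      rw [← Nat.card_congr (QuotientAddGroup.quotientKerEquivRange δ).toEquiv]
      rw [mul_comm, ← AddSubgroup.card_eq_card_quotient_mul_card_addSubgroup]
    rw [← h1]
    exact Nat.mul_le_mul_left _ (Nat.card_le_card_of_injective _ (AddSubgroup.inclusion_injective hδ))
  have hfix : ∀ a ∈ δ.ker, u H a * s = s * u H a := by
    intro a ha
    have h : π a = a := CharTwo.add_eq_zero.mp (show π a + a = 0 from ha)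
    have h2 := hπ a
    rw [h] at h2
    exact (mul_inv_eq_iff_eq_mul.mp h2).symm
  have hr' : ∀ a : δ.ker, g * u H (a : F) * g⁻¹ ∈ (P : Subgroup Γ) := fun a =>
    hgP _ (hU (u_mem H _)) (hfix _ a.2)
  have hsem : ∀ a : δ.ker, ∃ τ, IsSemi H (g * u H (a : F) * g⁻¹) τ := fun a => semi_of_mem H hPN (hr' a)
  choose T hT using hsem
  have hTsq : ∀ a, T a * T a = 1 := by
    intro a
    have e : g * u H (a : F) * g⁻¹ * (g * u H (a : F) * g⁻¹) = 1 := by
      calc _ = g * (u H (a : F) * u H (a : F)) * g⁻¹ := by group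
        _ = 1 := by rw [← u_add, add_self_zero, u_zero]; group
    have h := (hT a).mul H (hT a)
    rw [e] at h
    exact ((IsSemi.one H).unique H h).symm
  have hTinj : Function.Injective T := by
    intro a b e
    by_contra hab
    have hne : ((a - b : δ.ker) : F) ≠ 0 := fun h => hab (sub_eq_zero.mp (Subtype.ext h))
    have hl : IsSemi H (g * u H ((a - b : δ.ker) : F) * g⁻¹) (RingEquiv.refl F) := by
      have h : g * u H ((a - b : δ.ker) : F) * g⁻¹ = g * u H (a : F) * g⁻¹ * (g * u H (b : F) * g⁻¹) := by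
        rw [AddSubgroup.coe_sub, CharTwo.sub_eq_add, u_add]; group
      rw [h]
      have h2 := (hT a).mul H (hT b)
      rw [e] at h2
      have h3 : (T b).trans (T b) = RingEquiv.refl F := hTsq b
      rwa [h3] at h2
    have hmem := mem_U_of_linear H P hU (hr' (a - b)) hl
    have hne1 : g * u H ((a - b : δ.ker) : F) * g⁻¹ ≠ 1 := ((isRoot_u H hne).conj H g).ne_one H
    have hax : move H g (W0 F) = W0 F := by
      rw [← ax_root H hne, ax_of_mem H (g := 1) (by rwa [conjU_one]) hne1, move_one]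
    have hgax : move H g (ax H s) = W0 F := by rw [← ax_conj, hgs, ax_u H hd0]
    have hs' : ax H s = W0 F := move_inj H (hgax.trans hax.symm)
    refine hnl (RingEquiv.ext fun x => ?_)
    have hfx : ∀ y, H.ρ s ![y, 0] = ![y, 0] := fun y =>
      (fix_root H ⟨g0, c, hc, hs0⟩ _).mpr (hs' ▸ line_mem y)
    have h := hτs x ![1, 0]
    rw [show x • (![1, 0] : M) = ![x, 0] by simp, hfx, hfx] at h
    have h0 := congrFun h 0
    simpa using h0.symm
  obtain ⟨e, -, he⟩ := FiniteField.card F 2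
  haveI : Finite (RingAut F) := Nat.finite_of_card_ne_zero (by
    rw [(Classical.PSLAut.card_ringAut (F := F) (p := 2) he).2]; exact e.pos.ne')
  have h2 : Nat.card δ.ker ≤ 2 := by
    rw [Nat.card_eq_fintype_card]
    by_contra hgt
    push Not at hgt
    obtain ⟨a, b, cc, hab, hac, hbc⟩ := Fintype.two_lt_card_iff.mp hgt
    rcases Classical.em (T a = 1) with h1 | h1
    · have hb1 : T b ≠ 1 := fun h => hab (hTinj (h1.trans h.symm))
      rcases eq_one_or_eq_of_sq 2 (T b) (T cc) (hTsq b) (hTsq cc) hb1 with h | h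
      · exact hac (hTinj (h1.trans h.symm))
      · exact hbc (hTinj h.symm)
    · rcases eq_one_or_eq_of_sq 2 (T a) (T b) (hTsq a) (hTsq b) h1 with h | h
      · rcases eq_one_or_eq_of_sq 2 (T a) (T cc) (hTsq a) (hTsq cc) h1 with h' | h'
        · exact hbc (hTinj (h.trans h'.symm))
        · exact hac (hTinj h'.symm)
      · exact hab (hTinj h.symm)
  rw [Nat.card_eq_fintype_card] at hcard
  have := Nat.mul_le_mul h2 h2
  omega

end Cfsg.Agent.Fus.NatSL
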