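import Mathlib
import Cfsg.Agent.Lib.Fus.NatSL.Semi
import Cfsg.Agent.Lib.Fus.NatSL.AltOn
import Cfsg.Agent.Lib.Fus.NatSL.GoodTwo
import Cfsg.Agent.Lib.Fus.PSLTwo
import Cfsg.Agent.Lib.Recog.GL42

/-!
The field of four elements: through `GL(4, 2) ≤ A₈` the natural `SL(2, 4)` becomes the alternating group on
five points, so that either it is normal or the group is `A₇`.
-/

set_option autoImplicit false
set_option linter.unusedSectionVars false

namespace Cfsg.Agent.Fus.NatSL

open Matrix Cfsg.Agent.Grp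
open scoped Pointwise

universe u v

variable {F : Type u} [Field F] [Fintype F] [CharP F 2] {Γ : Type v} [Group Γ] [Finite Γ] (H : Setup F Γ)

local notation "M" => (Fin 2 → F)

/-- The matrix of an additive endomorphism. -/
noncomputable def matHom (e : M ≃+ (Fin 4 → ZMod 2)) :
    AddMonoid.End M →* Matrix (Fin 4) (Fin 4) (ZMod 2) where
  toFun f := LinearMap.toMatrix'
    (AddMonoidHom.toZModLinearMap 2 (AddMonoidHom.mk' (fun x => e (f (e.symm x)))
      (fun a b => by rw [map_add, map_add, map_add])))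
  map_one' := by
    rw [← LinearMap.toMatrix'_id]
    exact congrArg _ (LinearMap.ext fun x => e.apply_symm_apply x)
  map_mul' f g := by
    rw [← LinearMap.toMatrix'_comp]
    refine congrArg _ (LinearMap.ext fun x => ?_)
    show e (f (g (e.symm x))) = e (f (e.symm (e (g (e.symm x)))))
    rw [e.symm_apply_apply]

theorem matHom_injective (e : M ≃+ (Fin 4 → ZMod 2)) : Function.Injective (matHom e) := by
  intro f g h
  refine DFunLike.ext _ _ fun v => e.injective ?_
  have h2 : e (f (e.symm (e v))) = e (g (e.symm (e v))) :=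
    LinearMap.congr_fun (LinearMap.toMatrix'.injective h) (e v)
  rwa [e.symm_apply_apply] at h2

theorem exists_phi (hF : Fintype.card F = 4) :
    ∃ Φ : (AddMonoid.End M)ˣ →* Equiv.Perm (Fin 8), Function.Injective Φ ∧
      ∀ x, Equiv.Perm.sign (Φ x) = 1 := by
  letI : Algebra (ZMod 2) F := ZMod.algebra F 2
  have hr : Module.finrank (ZMod 2) M = Module.finrank (ZMod 2) (Fin 4 → ZMod 2) := by
    have h1 := Module.card_eq_pow_finrank (K := ZMod 2) (V := M)
    rw [Fintype.card_fun, hF, Fintype.card_fin, ZMod.card] at h1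
    rw [Module.finrank_fin_fun]
    exact (Nat.pow_right_injective le_rfl (h1.symm.trans (by norm_num : 4 ^ 2 = 2 ^ 4))).symm.symm
  let e : M ≃+ (Fin 4 → ZMod 2) := (LinearEquiv.ofFinrankEq _ _ hr).toAddEquiv
  refine ⟨Recog.GL42.hom.comp (Units.map (matHom e)), ?_, fun x => Recog.GL42.sign_hom _⟩
  exact Recog.GL42.hom_injective.comp (Units.map_injective (matHom_injective e))

/-- Scalars as units. -/
def scalarHom (F : Type u) [Field F] : Fˣ →* (AddMonoid.End (Fin 2 → F))ˣ :=
  MonoidHom.toHomUnits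
    { toFun := fun t => DistribSMul.toAddMonoidHom (Fin 2 → F) (t : F)
      map_one' := DFunLike.ext _ _ fun v => one_smul F v
      map_mul' := fun s t => DFunLike.ext _ _ fun v => mul_smul (s : F) (t : F) v }

theorem sl_up_add (a b : F) : SL2.up (a + b) = SL2.up a * SL2.up b := by
  refine Subtype.ext ?_
  rw [Matrix.SpecialLinearGroup.coe_mul]
  show (!![1, a + b; 0, 1] : Matrix (Fin 2) (Fin 2) F) = !![1, a; 0, 1] * !![1, b; 0, 1]
  ext i j
  fin_cases i <;> fin_cases j <;> simp [Matrix.mul_apply, Fin.sum_univ_two, add_comm]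

theorem sl_low_add (a b : F) : SL2.low (a + b) = SL2.low a * SL2.low b := by
  refine Subtype.ext ?_
  rw [Matrix.SpecialLinearGroup.coe_mul]
  show (!![1, 0; a + b, 1] : Matrix (Fin 2) (Fin 2) F) = !![1, 0; a, 1] * !![1, 0; b, 1]
  ext i j
  fin_cases i <;> fin_cases j <;> simp [Matrix.mul_apply, Fin.sum_univ_two, add_comm]

theorem eq_top_of_hom {X : Type*} [Group X] (f : Matrix.SpecialLinearGroup (Fin 2) F →* X)
    (hcomm : ∀ A B, f A * f B = f B * f A) (h2 : 2 < Fintype.card F) (A : Matrix.SpecialLinearGroup (Fin 2) F) :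
    f A = 1 := by
  classical
  obtain ⟨μ, hμ0, hμ1⟩ : ∃ μ : F, μ ≠ 0 ∧ μ ^ 2 ≠ 1 := by
    obtain ⟨μ, hμ⟩ : ∃ μ : F, μ ∉ ({0, 1} : Finset F) := by
      by_contra hcon
      push Not at hcon
      have h := Finset.card_le_card (fun x (_ : x ∈ Finset.univ) => hcon x)
      rw [Finset.card_univ] at h
      exact absurd (h.trans Finset.card_le_two) (by omega)
    simp only [Finset.mem_insert, Finset.mem_singleton, not_or] at hμ
    refine ⟨μ, hμ.1, fun h => hμ.2 ?_⟩
    have h' : (μ - 1) ^ 2 = 0 := by rw [sub_pow_char, h]; simp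
    exact sub_eq_zero.mp (eq_zero_of_pow_eq_zero h')
  have hconj : ∀ t : F, dSL μ hμ0 * SL2.up t * (dSL μ hμ0)⁻¹ = SL2.up (μ ^ 2 * t) ∧
      dSL μ hμ0 * SL2.low (μ ^ 2 * t) * (dSL μ hμ0)⁻¹ = SL2.low t := by
    intro t
    constructor
    all_goals
      rw [mul_inv_eq_iff_eq_mul]
      refine Subtype.ext ?_
      simp only [Matrix.SpecialLinearGroup.coe_mul]
      ext i j
      fin_cases i <;> fin_cases j <;>
        simp [Matrix.mul_apply, Fin.sum_univ_two, dSL, SL2.up, SL2.low] <;> field_simp
  have key : ∀ (X Y : Matrix.SpecialLinearGroup (Fin 2) F), dSL μ hμ0 * X * (dSL μ hμ0)⁻¹ = Y → f Y = f X := by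
    intro X Y h
    rw [← h, map_mul, map_mul, hcomm, mul_assoc, ← map_mul, mul_inv_cancel, map_one, mul_one]
  have hne : μ ^ 2 - 1 ≠ 0 := sub_ne_zero.mpr hμ1
  have hdiv : ∀ t : F, μ ^ 2 * (t / (μ ^ 2 - 1)) = t + t / (μ ^ 2 - 1) := fun t => by field_simp; ring
  have hup : ∀ t, SL2.up t ∈ f.ker := by
    intro t
    have h := key _ _ (hconj (t / (μ ^ 2 - 1))).1
    rw [hdiv, show SL2.up (t + t / (μ ^ 2 - 1)) = SL2.up t * SL2.up (t / (μ ^ 2 - 1)) from sl_up_add _ _,
      map_mul] at h
    exact MonoidHom.mem_ker.mpr (mul_eq_right.mp h)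
  have hlow : ∀ t, SL2.low t ∈ f.ker := by
    intro t
    have h := key _ _ (hconj (t / (μ ^ 2 - 1))).2
    rw [hdiv, show SL2.low (t + t / (μ ^ 2 - 1)) = SL2.low t * SL2.low (t / (μ ^ 2 - 1)) from sl_low_add _ _,
      map_mul] at h
    exact MonoidHom.mem_ker.mpr (mul_eq_right.mp h.symm)
  have h := AdjoinSL.eq_top_of_up_low hup hlow
  exact MonoidHom.mem_ker.mp (h ▸ Subgroup.mem_top A)

theorem three_cycle_of_big_centralizer {c : Equiv.Perm (Fin 8)} (h3 : orderOf c = 3)
    (hbig : 60 ≤ Nat.card (Subgroup.centralizer ({c} : Set (Equiv.Perm (Fin 8))))) : c.support.card = 3 := by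
  have ht : ∀ n ∈ c.cycleType, n = 3 := fun n hn => by
    have h1 := Equiv.Perm.dvd_of_mem_cycleType hn
    rw [h3] at h1
    rcases (Nat.dvd_prime Nat.prime_three).mp h1 with h | h
    · exact absurd h (by have := Equiv.Perm.two_le_of_mem_cycleType hn; omega)
    · exact h
  have hrep := Multiset.eq_replicate_card.mpr ht
  have hsum := Equiv.Perm.sum_cycleType c
  have hle := Finset.card_le_univ c.support
  rw [Fintype.card_fin] at hle
  obtain ⟨k, hk⟩ : ∃ k, k = Multiset.card c.cycleType := ⟨_, rfl⟩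
  rw [← hk] at hrep
  rw [hrep, Multiset.sum_replicate, smul_eq_mul] at hsum
  have hk0 : k ≠ 0 := by
    intro h
    rw [h, Multiset.replicate_zero, Equiv.Perm.cycleType_eq_zero] at hrep
    rw [hrep, orderOf_one] at h3
    exact absurd h3 (by norm_num)
  have hk1 : k = 1 ∨ k = 2 := by omega
  rcases hk1 with rfl | rfl
  · omega
  · exfalso
    rw [Equiv.Perm.nat_card_centralizer, hrep, Fintype.card_fin] at hbig
    simp [Finset.prod_singleton, Nat.factorial] at hbig

/-- Over four elements: normal, or the alternating group of degree seven. -/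
theorem normal_or_alt_of_four (hF : Fintype.card F = 4) (P : Sylow 2 Γ) (hU : U H ≤ P)
    (hPN : (P : Subgroup Γ) ≤ Subgroup.normalizer (H.ι.range : Set Γ)) :
    H.ι.range.Normal ∨ Nonempty (Γ ≃* alternatingGroup (Fin 7)) := by
  classical
  obtain ⟨Φ, hΦ, hsign⟩ := exists_phi (F := F) hF
  obtain ⟨ψ, hψe⟩ : ∃ ψ : Γ →* Equiv.Perm (Fin 8), ψ = Φ.comp H.ρ.toHomUnits := ⟨_, rfl⟩
  have hψ : Function.Injective ψ := by
    rw [hψe]
    exact hΦ.comp fun a b h => H.inj (congrArg Units.val h)
  obtain ⟨G', hG'⟩ : ∃ G', G' = ψ.range := ⟨_, rfl⟩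
  -- the scalar of order three
  obtain ⟨ω, hω⟩ : ∃ ω : Fˣ, orderOf ω = 3 := by
    haveI := Fact.mk Nat.prime_three
    refine exists_prime_orderOf_dvd_card' 3 ?_
    rw [Nat.card_units, Nat.card_eq_fintype_card, hF]
  obtain ⟨c, hc⟩ : ∃ c, c = Φ (scalarHom F ω) := ⟨_, rfl⟩
  have hscal : Function.Injective (scalarHom F) := by
    intro s t h
    have h2 : (s : F) • (![1, 0] : M) = (t : F) • ![1, 0] := DFunLike.congr_fun (congrArg Units.val h) _
    exact Units.ext (by simpa using congrFun h2 0)
  have hc3 : orderOf c = 3 := by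
    rw [hc, orderOf_injective Φ hΦ, orderOf_injective (scalarHom F) hscal, hω]
  have hlin : ∀ x : Γ, IsSemi H x (RingEquiv.refl F) → Commute c (ψ x) := by
    intro x hx
    rw [hc, hψe]
    refine Commute.map (Units.ext (DFunLike.ext _ _ fun v => ?_)) Φ
    exact (hx (ω : F) v).symm
  obtain ⟨f, hf⟩ : ∃ f, f = ψ.comp H.ι := ⟨_, rfl⟩
  have hfi : Function.Injective f := hf ▸ hψ.comp (ι_injective H)
  have hSL : Nat.card (Matrix.SpecialLinearGroup (Fin 2) F) = 60 := by
    rw [PSLTwo.natCard_SL_two, hF]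
  have hrange : Nat.card f.range = 60 := by
    rw [← hSL]
    exact (Nat.card_congr (MonoidHom.ofInjective hfi).toEquiv).symm
  have hsupp : c.support.card = 3 := by
    refine three_cycle_of_big_centralizer hc3 ?_
    rw [← hrange]
    refine Subgroup.card_le_of_le ?_
    rintro _ ⟨A, rfl⟩
    refine Subgroup.mem_centralizer_singleton_iff.mpr ?_
    rw [hf]
    exact (hlin _ (isSemi_ι H A)).eq.symm
  obtain ⟨I, hI⟩ : ∃ I, I = c.supportᶜ := ⟨_, rfl⟩
  have hIc : I.card = 5 := by rw [hI, Finset.card_compl, Fintype.card_fin, hsupp]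
  have hpres : ∀ {σ : Equiv.Perm (Fin 8)}, Commute c σ → ∀ x, σ x ∈ c.support ↔ x ∈ c.support := by
    intro σ h x
    rw [Equiv.Perm.mem_support, Equiv.Perm.mem_support]
    have h2 : c (σ x) = σ (c x) := DFunLike.congr_fun h.eq x
    rw [h2, σ.injective.ne_iff]
  have hcyc : c.IsCycle := Equiv.Perm.IsThreeCycle.isCycle (card_support_eq_three_iff.mp hsupp)
  -- the restriction of the linear elements to the three points is a power of `c`
  have hpow : ∀ σ, Commute c σ → ∃ k : ℤ, ∀ x ∈ c.support, σ x = (c ^ k) x := by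
    intro σ h
    obtain ⟨x0, hx0⟩ : c.support.Nonempty := Finset.card_pos.mp (by omega)
    obtain ⟨k, hk⟩ := hcyc.sameCycle (Equiv.Perm.mem_support.mp hx0) (Equiv.Perm.mem_support.mp ((hpres h x0).mpr hx0))
    refine ⟨k, fun x hx => ?_⟩
    obtain ⟨j, rfl⟩ := hcyc.sameCycle (Equiv.Perm.mem_support.mp hx0) (Equiv.Perm.mem_support.mp hx)
    rw [← Equiv.Perm.mul_apply, (h.symm.zpow_right j).eq, Equiv.Perm.mul_apply, ← hk, ← Equiv.Perm.mul_apply,
      ← Equiv.Perm.mul_apply, ← _root_.zpow_add, ← _root_.zpow_add, add_comm]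
  have hrestr : ∀ A x, x ∈ c.support → f A x = x := by
    intro A x hx
    have hC : ∀ B, Commute c (f B) := fun B => hf ▸ hlin _ (isSemi_ι H B)
    let g : Matrix.SpecialLinearGroup (Fin 2) F →* Equiv.Perm {x // x ∈ c.support} :=
      { toFun := fun B => (f B).subtypePerm (hpres (hC B))
        map_one' := Equiv.ext fun z => Subtype.ext (by simp)
        map_mul' := fun B C => Equiv.ext fun z => Subtype.ext (by
          show f (B * C) z.1 = f B (f C z.1)
          rw [map_mul]; rfl) }
    have hg : g A = 1 := by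
      refine eq_top_of_hom g (fun B C => ?_) (by omega) A
      obtain ⟨k, hk⟩ := hpow _ (hC B)
      obtain ⟨l, hl⟩ := hpow _ (hC C)
      refine Equiv.ext fun z => Subtype.ext ?_
      show f B (f C z.1) = f C (f B z.1)
      rw [hl z.1 z.2, hk z.1 z.2, hk _ (Equiv.Perm.zpow_apply_mem_support.mpr z.2),
        hl _ (Equiv.Perm.zpow_apply_mem_support.mpr z.2), ← Equiv.Perm.mul_apply, ← Equiv.Perm.mul_apply,
        ← _root_.zpow_add, ← _root_.zpow_add, add_comm]
    exact congrArg Subtype.val (DFunLike.congr_fun hg ⟨x, hx⟩)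
  have hL : f.range = altOn I := by
    refine Subgroup.eq_of_le_of_card_ge ?_ ?_
    · rintro _ ⟨A, rfl⟩
      exact ⟨by rw [hf, hψe]; exact hsign _, fun x hx => hrestr A x (by rw [hI, Finset.mem_compl, not_not] at hx; exact hx)⟩
    · rw [card_altOn I (by omega), hIc, hrange]
      rfl
  have hfr : f.range = H.ι.range.map ψ := by rw [hf, MonoidHom.range_comp]
  have hIG : altOn I ≤ G' := by
    rw [← hL, hfr, hG']
    exact Subgroup.map_le_range _ _
  by_cases hstab : ∀ σ ∈ G', I.image σ = I
  · left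
    refine ⟨fun n hn a => ?_⟩
    have h1 : ψ n ∈ altOn I := by rw [← hL, hfr]; exact ⟨n, hn, rfl⟩
    have h2 := conj_mem_altOn (σ := ψ a) h1
    rw [hstab _ (hG' ▸ ⟨a, rfl⟩), ← hL, hfr] at h2
    obtain ⟨m, hm, e⟩ := h2
    rw [← map_inv, ← map_mul, ← map_mul] at e
    exact hψ e ▸ hm
  push Not at hstab
  obtain ⟨σ, hσG, hσI⟩ := hstab
  -- two-part
  have hcardG : Nat.card G' = Nat.card Γ := by
    rw [hG']
    exact (Nat.card_congr (MonoidHom.ofInjective hψ).toEquiv).symm
  obtain ⟨hcyc', hcardA⟩ := Classical.PSLAut.card_ringAut (F := F) (p := 2) (f := 2) (by rw [hF]; norm_num)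
  have hsem : ∀ x : (P : Subgroup Γ), ∃ τ, IsSemi H (x : Γ) τ := fun x => semi_of_mem H hPN x.2
  choose τ hτ using hsem
  let θ : (P : Subgroup Γ) →* RingAut F :=
    MonoidHom.mk' τ fun x y => (hτ (x * y)).unique H ((hτ x).mul H (hτ y))
  have hker : θ.ker.map (P : Subgroup Γ).subtype ≤ U H := by
    rintro _ ⟨x, hx, rfl⟩
    refine mem_U_of_linear H P hU x.2 ?_
    have h : τ x = RingEquiv.refl F := MonoidHom.mem_ker.mp hx
    exact h ▸ hτ x
  haveI : Finite (RingAut F) := Nat.finite_of_card_ne_zero (by rw [hcardA]; norm_num)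
  have hkc : Nat.card θ.ker ≤ 4 := by
    rw [← Subgroup.card_map_of_injective (K := θ.ker) (f := (P : Subgroup Γ).subtype) Subtype.val_injective]
    refine (Subgroup.card_le_of_le hker).trans ?_
    rw [card_U, Nat.card_eq_fintype_card, hF]
  have hP8 : Nat.card (P : Subgroup Γ) ≤ 8 := by
    rw [Subgroup.card_eq_card_quotient_mul_card_subgroup θ.ker,
      Nat.card_congr (QuotientGroup.quotientKerEquivRange θ).toEquiv]
    calc Nat.card θ.range * Nat.card θ.ker ≤ 2 * 4 :=
          Nat.mul_le_mul ((Nat.card_le_card_of_injective _ θ.range.subtype_injective).trans hcardA.le) hkc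
      _ = 8 := rfl
  have h16 : ¬ 16 ∣ Nat.card G' := by
    intro h
    rw [hcardG] at h
    obtain ⟨K, hK⟩ := Sylow.exists_subgroup_card_pow_prime 2 (n := 4) (by simpa using h)
    obtain ⟨Q, hQ⟩ := (IsPGroup.of_card hK).exists_le_sylow
    have h1 := Subgroup.card_le_of_le hQ
    rw [hK, Sylow.card_eq_multiplicity, ← P.card_eq_multiplicity] at h1
    omega
  have hseven : ∀ S : Finset (Fin 8), 7 ≤ S.card → altOn S ≤ G' → Nonempty (Γ ≃* alternatingGroup (Fin 7)) := by
    intro S hS hle
    have hS8 := Finset.card_le_univ S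
    rw [Fintype.card_fin] at hS8
    have hcard := Subgroup.card_dvd_of_le hle
    rcases Nat.lt_or_ge S.card 8 with h7 | h8
    · rw [card_altOn S (by omega), show S.card = 7 by omega] at hcard
      have hA8 : Nat.card G' ∣ 20160 := by
        have hle8 : G' ≤ alternatingGroup (Fin 8) := by
          rw [hG']
          rintro _ ⟨x, rfl⟩
          exact Equiv.Perm.mem_alternatingGroup.mpr (by rw [hψe]; exact hsign _)
        have := Subgroup.card_dvd_of_le hle8
        rwa [nat_card_alternatingGroup, Nat.card_fin] at this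
      have heq : Nat.card G' = 2520 := by
        obtain ⟨k, hk⟩ := hcard
        norm_num [Nat.factorial] at hk
        obtain ⟨l, hl⟩ := hA8
        rw [← Nat.card_eq_fintype_card] at hk
        rw [hk] at hl h16
        have hkl : k * l = 8 := by nlinarith
        have hk8 : k ∣ 8 := ⟨l, hkl.symm⟩
        have := Nat.le_of_dvd (by norm_num) hk8
        interval_cases k <;> first | omega | exact absurd (by norm_num) h16
      have e : altOn S = G' := by
        refine Subgroup.eq_of_le_of_card_ge hle ?_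
        rw [heq, card_altOn S (by omega), show S.card = 7 by omega]
        rfl
      exact ⟨(MonoidHom.ofInjective hψ).trans ((MulEquiv.subgroupCongr (hG' ▸ e.symm : ψ.range = altOn S)).trans
        (altOnEquiv S (by omega)))⟩
    · exfalso
      rw [card_altOn S (by omega), show S.card = 8 by omega] at hcard
      exact h16 (dvd_trans (by norm_num [Nat.factorial]) hcard)
  right
  obtain ⟨T, hT⟩ : ∃ T, T = I ∪ I.image σ := ⟨_, rfl⟩
  have himc : (I.image σ).card = 5 := by rw [Finset.card_image_of_injective _ σ.injective, hIc]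
  obtain ⟨a, ha, b, hb, hab⟩ : ∃ a ∈ I ∩ I.image σ, ∃ b ∈ I ∩ I.image σ, a ≠ b := by
    have h1 := Finset.card_union_add_card_inter I (I.image σ)
    have h2 := Finset.card_le_univ (I ∪ I.image σ)
    rw [Fintype.card_fin] at h2
    exact Finset.one_lt_card.mp (by omega)
  simp only [Finset.mem_inter] at ha hb
  have hTG : altOn T ≤ G' := hT ▸ altOn_union_le hIG (altOn_image_le hIG hσG) hab ha.1 hb.1 ha.2 hb.2
  rcases Nat.lt_or_ge T.card 7 with hT6 | hT7
  swap
  · exact hseven T hT7 hTG
  have hIT : I ⊆ T := hT ▸ Finset.subset_union_left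
  have hT5 : 5 < T.card := by
    by_contra h
    push Not at h
    have e1 : I = T := Finset.eq_of_subset_of_card_le hIT (by omega)
    refine hσI (Finset.eq_of_subset_of_card_le ?_ (by omega))
    intro x hx
    rw [e1, hT]
    exact Finset.mem_union_right _ hx
  have h360 : 360 ∣ Nat.card G' := by
    have h := Subgroup.card_dvd_of_le hTG
    rwa [card_altOn T (by omega), show T.card = 6 by omega] at h
  -- an element of the Sylow subgroup outside the linear group
  have hP8' : 8 ∣ Nat.card (P : Subgroup Γ) := by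
    refine P.pow_dvd_card_of_pow_dvd_card (n := 3) ?_
    rw [← hcardG]
    exact dvd_trans (by norm_num) h360
  obtain ⟨y, hyP, hyl⟩ : ∃ y ∈ (P : Subgroup Γ), ¬ IsSemi H y (RingEquiv.refl F) := by
    by_contra hcon
    push Not at hcon
    have h := Subgroup.card_le_of_le (fun x hx => mem_U_of_linear H P hU hx (hcon x hx) : (P : Subgroup Γ) ≤ U H)
    rw [card_U, Nat.card_eq_fintype_card (α := F), hF] at h
    have := Nat.le_of_dvd Nat.card_pos hP8'
    omega
  obtain ⟨η, hη⟩ : ∃ η, η = ψ y := ⟨_, rfl⟩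
  have hηI : ∀ x, η x ∈ I ↔ x ∈ I := by
    have key : ∀ x, x ∈ I → η x ∈ I := by
      intro x hx
      by_contra hnx
      obtain ⟨b, hb, d, hd, hbd⟩ := Finset.one_lt_card.mp (show 1 < (I.erase x).card by
        rw [Finset.card_erase_of_mem hx, hIc]; norm_num)
      have hm : Equiv.swap x b * Equiv.swap x d ∈ altOn I := three_mem hx (Finset.mem_of_mem_erase hb)
        (Finset.mem_of_mem_erase hd) (Finset.ne_of_mem_erase hb).symm (Finset.ne_of_mem_erase hd).symm
      have h2 : η * (Equiv.swap x b * Equiv.swap x d) * η⁻¹ ∈ altOn I := by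
        rw [← hL, hfr] at hm ⊢
        obtain ⟨n, hn, e⟩ := hm
        rw [← e, hη, ← map_inv, ← map_mul, ← map_mul]
        exact ⟨_, (Subgroup.mem_normalizer_iff.mp (hPN hyP) n).mp hn, rfl⟩
      have h3 := h2.2 (η x) hnx
      have hinv : η⁻¹ (η x) = x := η.symm_apply_apply x
      rw [Equiv.Perm.mul_apply, Equiv.Perm.mul_apply, hinv, EmbeddingLike.apply_eq_iff_eq,
        Equiv.Perm.mul_apply, Equiv.swap_apply_left,
        Equiv.swap_apply_of_ne_of_ne (Finset.ne_of_mem_erase hd) hbd.symm] at h3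
      exact Finset.ne_of_mem_erase hd h3
    intro x
    refine ⟨fun h => ?_, key x⟩
    have hIm : I.image η = I := by
      refine Finset.eq_of_subset_of_card_le (fun z hz => ?_) ?_
      · obtain ⟨w, hw, rfl⟩ := Finset.mem_image.mp hz
        exact key w hw
      · rw [Finset.card_image_of_injective _ η.injective]
    rw [← hIm, Finset.mem_image] at h
    obtain ⟨w, hw, e⟩ := h
    exact η.injective e ▸ hw
  have hηG : η ∈ G' := hG' ▸ hη ▸ ⟨y, rfl⟩
  have hyU : T.image η ≠ T := by
    intro hηT
    -- otherwise the subgroup preserving `T` has a subgroup of index two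
    obtain ⟨r, hr, hr'⟩ : ∃ r, r ∉ T ∧ η r ≠ r := by
      by_contra hcon
      push Not at hcon
      refine hyl ?_
      -- all three points are fixed, so `η` commutes with `c`
      obtain ⟨j, hj, hjI⟩ : ∃ j ∈ T, j ∉ I := Finset.exists_of_ssubset
        ((Finset.ssubset_iff_subset_ne).mpr ⟨hIT, fun h => by rw [← h] at hT5; omega⟩)
      have hTI : T = insert j I := (Finset.eq_of_subset_of_card_le (Finset.insert_subset hj hIT) (by
        rw [Finset.card_insert_of_notMem hjI]; omega)).symm
      have hfix : ∀ x, x ∈ c.support → η x = x := by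
        intro x hx
        have hxI : x ∉ I := by rw [hI, Finset.mem_compl, not_not]; exact hx
        by_cases hxT : x ∈ T
        · have h1 : η x ∈ T := hηT ▸ Finset.mem_image_of_mem _ hxT
          rw [hTI, Finset.mem_insert] at h1 hxT
          rcases h1 with h1 | h1
          · rcases hxT with h2 | h2
            · rw [h1, h2]
            · exact absurd h2 hxI
          · exact absurd ((hηI x).mp h1) hxI
        · exact hcon x hxT
      intro t v
      rcases eq_or_ne t 0 with rfl | ht
      · rw [zero_smul, map_zero, RingEquiv.refl_apply, zero_smul]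
      have hcomm : Commute c η := by
        refine Equiv.ext fun x => ?_
        rw [Equiv.Perm.mul_apply, Equiv.Perm.mul_apply]
        by_cases hx : x ∈ c.support
        · rw [hfix x hx, hfix _ (Equiv.Perm.apply_mem_support.mpr hx)]
        · have h2 : η x ∉ c.support := by
            intro h
            have hxI : η x ∈ I := (hηI x).mpr (by rw [hI, Finset.mem_compl]; exact hx)
            rw [hI, Finset.mem_compl] at hxI
            exact hxI h
          rw [Equiv.Perm.notMem_support.mp hx, Equiv.Perm.notMem_support.mp h2]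
      have hω3 : ∀ s : Fˣ, s ∈ Subgroup.zpowers ω := by
        intro s
        have e : Subgroup.zpowers ω = ⊤ := Subgroup.eq_top_of_card_eq _ (by
          rw [Nat.card_zpowers, hω, Nat.card_units, Nat.card_eq_fintype_card, hF])
        exact e ▸ Subgroup.mem_top s
      obtain ⟨k, hk⟩ := Subgroup.mem_zpowers_iff.mp (hω3 (Units.mk0 t ht))
      have h2 : Φ (scalarHom F (Units.mk0 t ht) * H.ρ.toHomUnits y) =
          Φ (H.ρ.toHomUnits y * scalarHom F (Units.mk0 t ht)) := by
        have h3 := (hcomm.zpow_left k).eq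
        rw [hc, hη, hψe] at h3
        rw [← hk, map_mul, map_mul, map_zpow, map_zpow]
        exact h3
      exact (DFunLike.congr_fun (congrArg Units.val (hΦ h2)) v).symm
    obtain ⟨K2, hK2⟩ : ∃ K2 : Subgroup (Equiv.Perm (Fin 8)),
        K2 = G' ⊓ MulAction.stabilizer (Equiv.Perm (Fin 8)) (T : Finset (Fin 8)) := ⟨_, rfl⟩
    have hηT' : η ∈ K2 := hK2 ▸ ⟨hηG, MulAction.mem_stabilizer_iff.mpr hηT⟩
    obtain ⟨K3, hK3⟩ : ∃ K3 : Subgroup K2, K3 = (MulAction.stabilizer (Equiv.Perm (Fin 8)) r).subgroupOf K2 :=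
      ⟨_, rfl⟩
    have hpresT : ∀ x ∈ K2, ∀ z, z ∉ T → x z ∉ T := by
      intro x hx z hz h
      have e : T.image x = T := MulAction.mem_stabilizer_iff.mp (hK2 ▸ hx : x ∈ G' ⊓ _).2
      rw [← e, Finset.mem_image] at h
      obtain ⟨w, hw, e'⟩ := h
      exact hz (x.injective e' ▸ hw)
    have hcompl : ∀ z, z ∉ T → z ≠ r → z = η r := by
      intro z hz hzr
      by_contra hne
      have hsub : ({r, η r, z} : Finset (Fin 8)) ⊆ Tᶜ := by
        intro w hw
        simp only [Finset.mem_insert, Finset.mem_singleton] at hw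
        rw [Finset.mem_compl]
        rcases hw with rfl | rfl | rfl
        exacts [hr, hpresT η hηT' r hr, hz]
      have h := Finset.card_le_card hsub
      rw [Finset.card_compl, Fintype.card_fin, Finset.card_eq_three.mpr
        ⟨_, _, _, hr'.symm, hzr.symm, fun e => hne e.symm, rfl⟩] at h
      omega
    have hidx : K3.index = 2 := by
      rw [Subgroup.index_eq_two_iff]
      refine ⟨⟨η, hηT'⟩, fun x => ?_⟩
      rw [hK3, Subgroup.mem_subgroupOf, Subgroup.mem_subgroupOf, MulAction.mem_stabilizer_iff,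
        MulAction.mem_stabilizer_iff, Subgroup.coe_mul, mul_smul]
      show Xor ((x : Equiv.Perm (Fin 8)) (η r) = r) ((x : Equiv.Perm (Fin 8)) r = r)
      by_cases h : (x : Equiv.Perm (Fin 8)) r = r
      · refine Or.inr ⟨h, fun h' => hr' ((x : Equiv.Perm (Fin 8)).injective (h'.trans h.symm))⟩
      · refine Or.inl ⟨?_, h⟩
        have h1 := hcompl _ (hpresT _ x.2 r hr) h
        by_contra h2
        have h3 := hcompl _ (hpresT _ x.2 _ (hpresT η hηT' r hr)) h2
        exact hr' ((x : Equiv.Perm (Fin 8)).injective (h3.trans h1.symm))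
    have hle2 : altOn T ≤ K2 := fun z hz => hK2 ▸ ⟨hTG hz, MulAction.mem_stabilizer_iff.mpr (by
      show T.image z = T
      refine Finset.eq_of_subset_of_card_le (fun w hw => ?_) (by rw [Finset.card_image_of_injective _ z.injective])
      obtain ⟨w', hw', rfl⟩ := Finset.mem_image.mp hw
      by_contra hcon
      have h1 : z w' = w' := z.injective (hz.2 _ hcon)
      rw [h1] at hcon
      exact hcon hw')⟩
    have h720 : 720 ∣ Nat.card K2 := by
      rw [← K3.index_mul_card, hidx, show 720 = 2 * 360 from rfl]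
      refine Nat.mul_dvd_mul_left 2 ?_
      have h := Subgroup.card_dvd_of_le (show (altOn T).subgroupOf K2 ≤ K3 by
        intro z hz
        rw [hK3, Subgroup.mem_subgroupOf, MulAction.mem_stabilizer_iff]
        exact (Subgroup.mem_subgroupOf.mp hz).2 r hr)
      rw [Nat.card_congr (Subgroup.subgroupOfEquivOfLe hle2).toEquiv, card_altOn T (by omega),
        show T.card = 6 by omega] at h
      exact h
    exact h16 (dvd_trans (dvd_trans (by norm_num) h720) (Subgroup.card_dvd_of_le (hK2 ▸ inf_le_left)))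
  refine hseven (T ∪ T.image η) ?_ ?_
  · by_contra h
    push Not at h
    have h1 : T ∪ T.image η = T := (Finset.eq_of_subset_of_card_le Finset.subset_union_left (by omega)).symm
    exact hyU (Finset.eq_of_subset_of_card_le (fun x hx => h1 ▸ Finset.mem_union_right _ hx) (by
      rw [Finset.card_image_of_injective _ η.injective]))
  · obtain ⟨a, ha, b, hb, hab⟩ := Finset.one_lt_card.mp (show 1 < I.card by omega)
    have e : ∀ z ∈ I, z ∈ T.image η := fun z hz => by
      obtain ⟨w, rfl⟩ := η.surjective z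
      exact Finset.mem_image_of_mem _ (hIT ((hηI w).mp hz))
    exact altOn_union_le hTG (altOn_image_le hTG hηG) hab (hIT ha) (hIT hb) (e a ha) (e b hb)

end Cfsg.Agent.Fus.NatSL
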