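import Mathlib
import Cfsg.Agent.Lib.Fus.NatSL.Semi
import Cfsg.Agent.Lib.Grp.Quadratic

/-!
Odd characteristic: two root elements whose axes share a nonzero vector have the same axis. An involution of
the group they generate commutes with both, which makes it semilinear on the first axis for a nontrivial
field automorphism, and scaling the first element gives a contradiction.
-/

set_option autoImplicit false
set_option linter.unusedSectionVars false

namespace Cfsg.Agent.Fus.NatSL

open Matrix Cfsg.Agent.Grp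

universe u v

section Trace

variable {R : Type*} [Ring R]

/-- Elements of the group generated by `1 + s` and `1 + t` and their inverses. -/
structure TraceForm (s t x y : R) : Prop where
  form : ∃ α β γ δ : R, (∀ c ∈ ({α, β, γ, δ} : Set R), Commute c s ∧ Commute c t) ∧
    x = α + β * s + γ * t + δ * (s * t) ∧ y = α - β * s - γ * t + δ * (t * s)

theorem traceForm_one (s t : R) : TraceForm s t 1 1 :=
  ⟨⟨1, 0, 0, 0, by simp, by simp, by simp⟩⟩

theorem traceForm_left {s t x y : R} (hs : s * s = 0) (ht : t * t = 0) (h : TraceForm s t x y) :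
    TraceForm s t (x * (1 + s)) ((1 - s) * y) := by
  obtain ⟨α, β, γ, δ, hc, rfl, rfl⟩ := h.form
  obtain ⟨⟨a1, a2⟩, ⟨b1, b2⟩, ⟨c1, c2⟩, ⟨d1, d2⟩⟩ :
      (Commute α s ∧ Commute α t) ∧ (Commute β s ∧ Commute β t) ∧ (Commute γ s ∧ Commute γ t) ∧
        (Commute δ s ∧ Commute δ t) :=
    ⟨hc α (by simp), hc β (by simp), hc γ (by simp), hc δ (by simp)⟩
  have zs : Commute (s * t + t * s) s := by
    show (s * t + t * s) * s = s * (s * t + t * s)
    rw [add_mul, mul_add, mul_assoc t s s, hs, mul_zero, add_zero, ← mul_assoc s s t, hs, zero_mul, zero_add,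
      mul_assoc]
  have zt : Commute (s * t + t * s) t := by
    show (s * t + t * s) * t = t * (s * t + t * s)
    rw [add_mul, mul_add, mul_assoc s t t, ht, mul_zero, zero_add, ← mul_assoc t t s, ht, zero_mul, add_zero,
      mul_assoc]
  refine ⟨α + γ * (s * t + t * s), α + β + δ * (s * t + t * s), γ, δ - γ, ?_, ?_, ?_⟩
  · intro c hc'
    simp only [Set.mem_insert_iff, Set.mem_singleton_iff] at hc'
    rcases hc' with rfl | rfl | rfl | rfl
    · exact ⟨a1.add_left (c1.mul_left zs), a2.add_left (c2.mul_left zt)⟩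
    · exact ⟨(a1.add_left b1).add_left (d1.mul_left zs), (a2.add_left b2).add_left (d2.mul_left zt)⟩
    · exact ⟨c1, c2⟩
    · exact ⟨d1.sub_left c1, d2.sub_left c2⟩
  · have e1 : β * s * s = 0 := by rw [mul_assoc, hs, mul_zero]
    have e2 : δ * (s * t) * s = δ * ((s * t + t * s) * s) := by
      rw [mul_assoc, add_mul, mul_assoc t s s, hs, mul_zero, add_zero]
    simp only [mul_add, add_mul, mul_one, sub_mul]
    rw [e1]
    rw [e2]
    simp only [mul_add, add_mul, mul_assoc, hs, mul_zero, add_zero]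
    abel
  · have e1 : s * (β * s) = 0 := by rw [← mul_assoc, ← b1.eq, mul_assoc, hs, mul_zero]
    have e2 : s * (δ * (t * s)) = δ * ((s * t + t * s) * s) := by
      rw [← mul_assoc, ← d1.eq, add_mul, mul_assoc t s s, hs, mul_zero, add_zero]
      simp only [mul_assoc]
    have e3 : s * α = α * s := a1.eq.symm
    have e4 : s * (γ * t) = γ * (s * t) := by rw [← mul_assoc, ← c1.eq, mul_assoc]
    simp only [sub_mul, one_mul, mul_sub, mul_add]
    rw [e1, e2, e3, e4]
    simp only [mul_add, add_mul, mul_assoc, hs, mul_zero, add_zero]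
    abel

theorem traceForm_right {s t x y : R} (ht : t * t = 0) (h : TraceForm s t x y) :
    TraceForm s t (x * (1 + t)) ((1 - t) * y) := by
  obtain ⟨α, β, γ, δ, hc, rfl, rfl⟩ := h.form
  obtain ⟨⟨a1, a2⟩, ⟨b1, b2⟩, ⟨c1, c2⟩, ⟨d1, d2⟩⟩ :
      (Commute α s ∧ Commute α t) ∧ (Commute β s ∧ Commute β t) ∧ (Commute γ s ∧ Commute γ t) ∧
        (Commute δ s ∧ Commute δ t) :=
    ⟨hc α (by simp), hc β (by simp), hc γ (by simp), hc δ (by simp)⟩
  refine ⟨α, β, γ + α, δ + β, ?_, ?_, ?_⟩
  · intro c hc'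
    simp only [Set.mem_insert_iff, Set.mem_singleton_iff] at hc'
    rcases hc' with rfl | rfl | rfl | rfl
    · exact ⟨a1, a2⟩
    · exact ⟨b1, b2⟩
    · exact ⟨c1.add_left a1, c2.add_left a2⟩
    · exact ⟨d1.add_left b1, d2.add_left b2⟩
  · simp only [mul_add, add_mul, mul_one, mul_assoc, ht, mul_zero, add_zero]
    abel
  · have e1 : t * (γ * t) = 0 := by rw [← mul_assoc, ← c2.eq, mul_assoc, ht, mul_zero]
    have e2 : t * (δ * (t * s)) = 0 := by
      rw [← mul_assoc, ← d2.eq, mul_assoc, ← mul_assoc t t s, ht, zero_mul, mul_zero]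
    have e3 : t * α = α * t := a2.eq.symm
    have e4 : t * (β * s) = β * (t * s) := by rw [← mul_assoc, ← b2.eq, mul_assoc]
    simp only [sub_mul, one_mul, mul_sub, mul_add]
    rw [e1, e2, e3, e4]
    simp only [mul_add, add_mul]
    abel

theorem traceForm_commute {s t x y : R} (hs : s * s = 0) (h : TraceForm s t x y) : Commute (x + y) s := by
  obtain ⟨α, β, γ, δ, hc, rfl, rfl⟩ := h.form
  have e : α + β * s + γ * t + δ * (s * t) + (α - β * s - γ * t + δ * (t * s)) =
      α + α + δ * (s * t + t * s) := by rw [mul_add]; abel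
  rw [e]
  refine ((hc α (by simp)).1.add_left (hc α (by simp)).1).add_left (((hc δ (by simp)).1).mul_left ?_)
  show (s * t + t * s) * s = s * (s * t + t * s)
  rw [add_mul, mul_add, mul_assoc t s s, hs, mul_zero, add_zero, ← mul_assoc s s t, hs, zero_mul, zero_add,
    mul_assoc]

end Trace

variable {F : Type u} [Field F] [Fintype F] {Γ : Type v} [Group Γ] [Finite Γ] (H : Setup F Γ)
variable {p : ℕ} [Fact p.Prime] [CharP F p]

local notation "M" => (Fin 2 → F)

theorem sq_diff {x : Γ} (hx : IsRoot H x) : (H.ρ x - 1) * (H.ρ x - 1) = 0 :=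
  DFunLike.ext _ _ fun v => by
    show H.ρ x (H.ρ x v - v) - (H.ρ x v - v) = 0
    have h : H.ρ x v - v ∈ ax H x := ⟨v, rfl⟩
    rw [(fix_root H hx _).mpr h, sub_self]

theorem map_inv_root {x : Γ} (hx : IsRoot H x) : H.ρ x⁻¹ = 1 - (H.ρ x - 1) := by
  have h1 : H.ρ x * (1 - (H.ρ x - 1)) = 1 := by
    have := sq_diff H hx
    calc H.ρ x * (1 - (H.ρ x - 1)) = 1 - (H.ρ x - 1) * (H.ρ x - 1) := by
          simp only [mul_sub, sub_mul, mul_one, one_mul]; abel
      _ = 1 := by rw [this, sub_zero]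
  calc H.ρ x⁻¹ = H.ρ x⁻¹ * (H.ρ x * (1 - (H.ρ x - 1))) := by rw [h1, mul_one]
    _ = _ := by rw [← mul_assoc, ← map_mul, inv_mul_cancel, map_one, one_mul]

/-- An involution generated by two root elements commutes with the first. -/
theorem commute_of_sq (hp : p ≠ 2) {a b z : Γ} (ha : IsRoot H a) (hb : IsRoot H b)
    (hz : z ∈ Subgroup.closure ({a, b} : Set Γ)) (h2 : z * z = 1) : z * a = a * z := by
  have key : ∀ g ∈ Subgroup.closure ({a, b} : Set Γ),
      TraceForm (H.ρ a - 1) (H.ρ b - 1) (H.ρ g) (H.ρ g⁻¹) := by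
    intro g hg
    rw [← Subgroup.mem_toSubmonoid, Subgroup.closure_toSubmonoid_of_finite] at hg
    induction hg using Submonoid.closure_induction_right with
    | one => rw [inv_one, map_one]; exact traceForm_one _ _
    | mul_right x y _ hy ih =>
      rcases hy with rfl | rfl
      · rw [map_mul, _root_.mul_inv_rev, map_mul, map_inv_root H ha]
        simpa using traceForm_left (sq_diff H ha) (sq_diff H hb) ih
      · rw [map_mul, _root_.mul_inv_rev, map_mul, map_inv_root H hb]
        simpa using traceForm_right (sq_diff H hb) ih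
  have hc := traceForm_commute (sq_diff H ha) (key z hz)
  rw [show z⁻¹ = z from inv_eq_of_mul_eq_one_right h2] at hc
  refine H.inj (DFunLike.ext _ _ fun v => ?_)
  have h : H.ρ z (H.ρ a v - v) + H.ρ z (H.ρ a v - v) =
      H.ρ a (H.ρ z v + H.ρ z v) - (H.ρ z v + H.ρ z v) := DFunLike.congr_fun hc.eq v
  rw [map_sub, map_add] at h
  have hne : (2 : F) ≠ 0 := Ring.two_ne_zero (by rwa [ringChar.eq F p])
  rw [map_mul, map_mul]
  show H.ρ z (H.ρ a v) = H.ρ a (H.ρ z v)
  funext i
  have h' := congrFun h i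
  simp only [Pi.add_apply, Pi.sub_apply] at h'
  exact mul_left_cancel₀ hne (by linear_combination h')

/-- Two root elements generating no group of prime power order generate a group with an involution. -/
theorem exists_involution (hp : p ≠ 2) {a b : Γ} (ha : IsRoot H a) (hb : IsRoot H b)
    (hnp : ¬ IsPGroup p (Subgroup.closure ({a, b} : Set Γ))) :
    ∃ z ∈ Subgroup.closure ({a, b} : Set Γ), z ≠ 1 ∧ z * z = 1 := by
  obtain ⟨J, hJ⟩ : ∃ J, J = Subgroup.closure ({a, b} : Set Γ) := ⟨_, rfl⟩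
  rw [← hJ] at hnp ⊢
  haveI : Fintype J := Fintype.ofFinite _
  obtain ⟨x, hx⟩ : ∃ x : J, ∀ k, x ^ p ^ k ≠ 1 := by
    unfold IsPGroup at hnp
    push Not at hnp
    exact hnp
  obtain ⟨k, m, hm, hkm⟩ := Nat.exists_eq_pow_mul_and_not_dvd (orderOf_pos x).ne' p (Fact.out : p.Prime).ne_one
  have hy : orderOf (x ^ p ^ k) = m := by
    rw [orderOf_pow, hkm, Nat.gcd_eq_right (dvd_mul_right _ _), Nat.mul_div_cancel_left _ (pow_pos (Fact.out : p.Prime).pos k)]
  letI : Algebra (ZMod p) F := ZMod.algebra F p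
  let ρJ : J →* Module.End (ZMod p) M :=
    { toFun := fun g => AddMonoidHom.toZModLinearMap p (act H (g : Γ))
      map_one' := LinearMap.ext fun v => act_one H v
      map_mul' := fun g h => LinearMap.ext fun v => act_mul H (g : Γ) h v }
  have haJ : a ∈ J := hJ ▸ Subgroup.subset_closure (Set.mem_insert _ _)
  have hbJ : b ∈ J := hJ ▸ Subgroup.subset_closure (Set.mem_insert_of_mem _ rfl)
  have hgen : Subgroup.closure ({⟨a, haJ⟩, ⟨b, hbJ⟩} : Set J) = ⊤ := by
    refine Subgroup.map_injective J.subtype_injective ?_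
    rw [MonoidHom.map_closure, ← MonoidHom.range_eq_map, Subgroup.range_subtype, Set.image_pair]
    exact hJ.symm
  have hq : ∀ (c : Γ) (hc : c ∈ J), IsRoot H c → ∀ w, ρJ ⟨c, hc⟩ (ρJ ⟨c, hc⟩ w - w) = ρJ ⟨c, hc⟩ w - w :=
    fun c hc hr w => (fix_root H hr _).mpr ⟨w, rfl⟩
  have hx' : ρJ (x ^ p ^ k) ≠ 1 := fun h => hx k (Subtype.ext (ext_act H fun v => by
    rw [Subgroup.coe_one, act_one]
    exact LinearMap.congr_fun h v))
  obtain ⟨K, _, _, _, φ, P, hP, -, -, -, -, hle, -⟩ := Quad.exists_sl_two_of_ne hp ρJ hgen (hq a haJ ha) (hq b hbJ hb)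
    hx' (by rw [hy]; exact ((Fact.out : p.Prime).coprime_iff_not_dvd.mpr hm).symm)
  obtain ⟨w, hw⟩ : ∃ w, φ w = SL2.conjHom P hP (SL2.primeHom K p (-1)) :=
    hle ⟨_, ⟨-1, rfl⟩, rfl⟩
  have hne : φ w ≠ 1 := by
    rw [hw]
    intro h
    have h1 := SL2.conjHom_injective P hP (h.trans (map_one _).symm)
    have h2 := SL2.primeHom_injective p (h1.trans (map_one _).symm)
    have h3 := congrFun (congrFun (congrArg Subtype.val h2) 0) 0
    simp only [Matrix.SpecialLinearGroup.coe_neg, Matrix.SpecialLinearGroup.coe_one, Matrix.neg_apply,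
      Matrix.one_apply_eq] at h3
    haveI : Fact (2 < p) := ⟨lt_of_le_of_ne (Fact.out : p.Prime).two_le (Ne.symm hp)⟩
    exact ZMod.neg_one_ne_one h3
  have hsq : φ w ^ 2 = 1 := by
    rw [hw, ← map_pow, ← map_pow]
    simp
  have h2 : 2 ∣ Nat.card J := by
    have h := orderOf_eq_prime hsq hne
    rw [← h]
    exact (orderOf_map_dvd φ w).trans (orderOf_dvd_natCard w)
  obtain ⟨z, hz⟩ := exists_prime_orderOf_dvd_card' 2 h2
  refine ⟨z, z.2, fun h => ?_, ?_⟩
  · rw [show z = 1 from Subtype.ext h, orderOf_one] at hz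
    exact absurd hz (by norm_num)
  · have := pow_orderOf_eq_one z
    rw [hz, sq] at this
    exact congrArg Subtype.val this

/-- Axes with a common vector coincide. -/
theorem meet_of_odd (hp : p ≠ 2) {P : Sylow p Γ} (hP : Good H p P) {g : Γ} {v : M} (hv : v ≠ 0)
    (hv0 : v ∈ W0 F) (hvg : v ∈ move H g (W0 F)) : move H g (W0 F) = W0 F := by
  by_contra hne
  obtain ⟨b, hb⟩ : ∃ b, b = g * u H 1 * g⁻¹ := ⟨_, rfl⟩
  have rb : IsRoot H b := hb ▸ (isRoot_u H one_ne_zero).conj H g
  have axb : ax H b = move H g (W0 F) := hb ▸ ax_root H one_ne_zero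
  obtain ⟨c1, rfl⟩ : ∃ c1, v = ![c1, 0] := ⟨_, eq_of_mem_W0 hv0⟩
  have hc1 : c1 ≠ 0 := fun h => hv (by rw [h]; simp)
  have hinv : ∀ c : F, c ≠ 0 → ∃ (τ : F ≃+* F) (α β : F), τ ≠ RingEquiv.refl F ∧ τ * τ = 1 ∧
      α * τ c1 = c1 ∧ c * β = α * τ c ∧
      ∃ z : Γ, (∀ y : F, H.ρ z ![y, 0] = ![α * τ y, 0]) ∧ (∀ w : M, H.ρ z w 1 = β * τ (w 1)) ∧
        z * b = b * z := by
    intro c hc
    have hnp : ¬ IsPGroup p (Subgroup.closure ({u H c, b} : Set Γ)) := fun h => hne (by
      rw [← axb, ← ax_u H hc]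
      exact (ax_eq_of_pGroup H hP h (Subgroup.subset_closure (Set.mem_insert _ _))
        (Subgroup.subset_closure (Set.mem_insert_of_mem _ rfl)) (isRoot_u H hc) rb).symm)
    obtain ⟨z, hzJ, hz1, hz2⟩ := exists_involution H hp (isRoot_u H hc) rb hnp
    have hzu : z * u H c = u H c * z := commute_of_sq H hp (isRoot_u H hc) rb hzJ hz2
    have hzb : z * b = b * z := by
      refine commute_of_sq H hp rb (isRoot_u H hc) ?_ hz2
      rwa [Set.pair_comm]
    have hstab : ∀ x ∈ Subgroup.closure ({u H c, b} : Set Γ), H.ρ x ![c1, 0] = ![c1, 0] := by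
      intro x hx'
      induction hx' using Subgroup.closure_induction with
      | mem x hx =>
        rcases hx with rfl | rfl
        · exact (fix_u H hc _).mpr hv0
        · exact (fix_root H rb _).mpr (axb ▸ hvg)
      | one => exact act_one H _
      | mul x y _ _ hx hy => rw [act_mul, hy, hx]
      | inv x _ hx =>
        conv_lhs => rw [← hx]
        exact act_inv H x _
    have hzv := hstab z hzJ
    have hk : ∀ d, ∃ d', z * u H d * z⁻¹ = u H d' := by
      intro d
      have e : conjU H z = U H := by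
        rw [← conjU_one H]
        refine conjU_eq_of_move H hP ?_
        rw [move_one, ← ax_u H hc, ← ax_conj, hzu, mul_inv_cancel_right]
      have : z * u H d * z⁻¹ ∈ conjU H z := (mem_conjU H).mpr (by simpa [mul_assoc] using u_mem H d)
      rw [e] at this
      obtain ⟨d', hd'⟩ := (mem_U H).mp this
      exact ⟨d', hd'.symm⟩
    obtain ⟨τ, α, β, hα, hβ, h0, h1⟩ := exists_shape H hk
    have hcz : α * τ c1 = c1 := by
      have h := congrFun ((h0 c1).symm.trans hzv) 0
      simpa using h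
    have hrel : ∀ x : F, α * τ (c * x) = c * (β * τ x) := by
      intro x
      have h : H.ρ z (H.ρ (u H c) ![0, x]) = H.ρ (u H c) (H.ρ z ![0, x]) := by
        rw [← act_mul, ← act_mul, hzu]
      rw [act_u, act_u] at h
      simp only [cons_val_zero, cons_val_one, zero_add] at h
      rw [show (![c * x, x] : M) = ![c * x, 0] + ![0, x] by funext i; fin_cases i <;> simp, map_add, h0] at h
      have h' := congrFun h 0
      simp only [Pi.add_apply, cons_val_zero] at h'
      have hv1 : H.ρ z ![0, x] 1 = β * τ x := h1 ![0, x]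
      rw [hv1] at h'
      linear_combination h'
    have hτ2 : τ * τ = 1 := by
      refine RingEquiv.ext fun y => ?_
      have h : ∀ w : F, α * τ (α * τ w) = w := fun w => by
        have e := act_one H ![w, 0]
        rw [← hz2, act_mul, h0, h0] at e
        simpa using congrFun e 0
      have h1' := h 1
      have hy := h y
      rw [map_mul] at hy h1'
      rw [map_one, map_one, mul_one] at h1'
      rw [← mul_assoc, h1', one_mul] at hy
      exact hy
    have hτ1 : τ ≠ RingEquiv.refl F := by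
      intro h
      subst h
      simp only [RingEquiv.refl_apply] at hcz h0 h1 hrel
      have ha1 : α = 1 := mul_right_cancel₀ hc1 (hcz.trans (one_mul c1).symm)
      have hb1 : β = 1 := by
        have h2 := hrel 1
        rw [ha1] at h2
        refine mul_left_cancel₀ hc ?_
        linear_combination -h2
      subst ha1 hb1
      refine hz1 ?_
      have hp1 : z ^ p = 1 := pow_eq_one_of_flag H p (A := W0 F)
        (fun w hw => by
          rw [eq_of_mem_W0 hw, h0, one_mul])
        (fun w => by rw [mem_W0, Pi.sub_apply, h1, one_mul, sub_self])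
      obtain ⟨m, hm⟩ := (Fact.out : p.Prime).odd_of_ne_two hp
      rw [hm, pow_succ, pow_mul, sq, hz2, one_pow, one_mul] at hp1
      exact hp1
    refine ⟨τ, α, β, hτ1, hτ2, hcz, ?_, z, h0, h1, hzb⟩
    have h2 := hrel 1
    rw [mul_one, map_one, mul_one] at h2
    exact h2.symm
  obtain ⟨τ, α, β, hτ1, hτ2, hα1, hβ1, z, h0, h1, hzb⟩ := hinv 1 one_ne_zero
  rw [one_mul, map_one, mul_one] at hβ1
  subst hβ1
  have hα0 : β ≠ 0 := fun h => hc1 (by rw [← hα1, h, zero_mul])
  obtain ⟨c, hc, hcτ⟩ : ∃ c : F, c ≠ 0 ∧ τ c ≠ c := by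
    by_contra hcon
    push Not at hcon
    refine hτ1 (RingEquiv.ext fun c => ?_)
    rcases eq_or_ne c 0 with rfl | h
    · exact map_zero τ
    · exact hcon c h
  obtain ⟨σ, α', β', hσ1, hσ2, hα', hβ', z', h0', h1', hzb'⟩ := hinv c hc
  have eσ : σ = τ := (eq_one_or_eq_of_sq p τ σ hτ2 hσ2 hτ1).resolve_left hσ1
  subst eσ
  have eα : α' = β := mul_right_cancel₀ (by simpa using hc1) (hα'.trans hα1.symm)
  subst eα
  refine move_root_ne H hP rb (axb ▸ hne) ?_
  refine move_eq_of_le H ?_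
  intro w hw
  obtain ⟨w, hw', rfl⟩ := hw
  obtain ⟨y, rfl⟩ : ∃ y, w = ![y, 0] := ⟨_, eq_of_mem_W0 hw'⟩
  show H.ρ b ![y, 0] 1 = 0
  obtain ⟨y', rfl⟩ : ∃ y', α' * σ y' = y :=
    ⟨σ.symm (y / α'), by rw [σ.apply_symm_apply, mul_div_cancel₀ _ hα0]⟩
  have e : ∀ (z : Γ) (β : F), (∀ y : F, H.ρ z ![y, 0] = ![α' * σ y, 0]) →
      (∀ w : M, H.ρ z w 1 = β * σ (w 1)) → z * b = b * z →
      β * σ (H.ρ b ![y', 0] 1) = H.ρ b ![α' * σ y', 0] 1 := by
    intro z β h0 h1 hzb
    rw [← h1, ← h0, ← act_mul, ← act_mul, hzb]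
  have e1 := e z α' h0 h1 hzb
  have e2 := e z' β' h0' h1' hzb'
  by_contra hne0
  have hσ0 : σ (H.ρ b ![y', 0] 1) ≠ 0 := fun h => hne0 (by rw [← e1, h, mul_zero])
  have e3 : β' = α' := mul_right_cancel₀ hσ0 (e2.trans e1.symm)
  rw [e3] at hβ'
  exact hcτ (mul_left_cancel₀ hα0 (by linear_combination -hβ'))

end Cfsg.Agent.Fus.NatSL
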