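import Mathlib
import Cfsg.Agent.Lib.Fus.NatSL.Semi

/-!
Characteristic two: two root elements whose axes share a nonzero vector have the same axis. Otherwise some
root element would invert at least `q - 1` elements of the common stabiliser of a vector and two axes, but
this stabiliser has order at most `gcd(e, q - 1) * e`.
-/

set_option autoImplicit false
set_option linter.unusedSectionVars false

namespace Cfsg.Agent.Fus.NatSL

open Matrix Cfsg.Agent.Grp

universe u v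

theorem gcd_mul_lt {e : ℕ} (he : 3 ≤ e) : Nat.gcd e (2 ^ e - 1) * e < 2 ^ e - 1 := by
  rcases Nat.lt_or_ge e 5 with h | h
  · interval_cases e <;> decide
  have h2 : e * e + 1 < 2 ^ e := by
    induction e, h using Nat.le_induction with
    | base => norm_num
    | succ n hn ih =>
      have := ih (by omega)
      rw [pow_succ]
      nlinarith
  have h3 : Nat.gcd e (2 ^ e - 1) * e ≤ e * e :=
    Nat.mul_le_mul_right _ (Nat.gcd_le_left _ (by omega))
  omega

variable {F : Type u} [Field F] [Fintype F] {Γ : Type v} [Group Γ] [Finite Γ] (H : Setup F Γ)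

local notation "M" => (Fin 2 → F)

section Flag

variable {p : ℕ} [Fact p.Prime] [CharP F p]

/-- The elements trivial on the line and on the quotient form the root subgroup. -/
theorem flag_le_U {P : Sylow p Γ} (hP : Good H p P)
    (hPN : (P : Subgroup Γ) ≤ Subgroup.normalizer (H.ι.range : Set Γ)) : flag H (W0 F) ≤ U H := by
  intro k hk
  obtain ⟨Q, hQ⟩ := (flag_pGroup H p (W0 F)).exists_le_sylow
  obtain ⟨g, hg⟩ := MulAction.exists_smul_eq Γ P Q
  have hmem : ∀ x ∈ flag H (W0 F), g⁻¹ * x * g ∈ (P : Subgroup Γ) := by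
    intro x hx
    have h := hQ hx
    rw [← hg, Sylow.coe_subgroup_smul, Subgroup.mem_smul_pointwise_iff_exists] at h
    obtain ⟨y, hy, e⟩ := h
    rw [← e]
    simpa [mul_assoc] using hy
  have hu1 : u H (1 : F) ∈ flag H (W0 F) :=
    ⟨fun w hw => (fix_u H one_ne_zero w).mpr hw, fun w => by rw [← ax_u H one_ne_zero]; exact ⟨w, rfl⟩⟩
  have hU1 : u H (1 : F) ∈ conjU H g := (mem_conjU H).mpr (hP.root _ (hmem _ hu1)
    (by simpa using (isRoot_u H one_ne_zero).conj H g⁻¹))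
  have hW : move H g (W0 F) = W0 F := by
    rw [← ax_of_mem H hU1 ((isRoot_u H one_ne_zero).ne_one H), ax_u H one_ne_zero]
  have hgU : conjU H g = U H := by
    rw [← conjU_one H]
    exact conjU_eq_of_move H hP (by rw [hW, move_one])
  rw [← hgU, mem_conjU]
  obtain ⟨τ, hτ⟩ := semi_of_mem H hPN (hmem k hk)
  refine mem_U_of_linear H P hP.le (hmem k hk) fun c w => ?_
  have hfix : ∀ y : F, H.ρ (g⁻¹ * k * g) ![y, 0] = ![y, 0] := by
    intro y
    have h : H.ρ g ![y, 0] ∈ W0 F := hW ▸ ⟨_, line_mem y, rfl⟩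
    rw [act_mul, act_mul, hk.1 _ h, act_inv]
  have h := hτ c ![1, 0]
  rw [show c • (![1, 0] : M) = ![c, 0] by simp, hfix, hfix] at h
  have h0 := congrFun h 0
  rw [hτ]
  congr 1
  simpa using h0.symm

end Flag

variable [CharP F 2]

theorem IsRoot.sq_eq_one {x : Γ} (hx : IsRoot H x) : x * x = 1 := by
  rw [← sq]
  exact pow_eq_one_of_flag H 2 (isRoot_flag H hx).1 (isRoot_flag H hx).2

/-- The common stabiliser of the vector, the line and a second axis. -/
def stab3 (c1 : F) (A : AddSubgroup M) : Subgroup Γ where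
  carrier := {k | H.ρ k ![c1, 0] = ![c1, 0] ∧ move H k (W0 F) = W0 F ∧ move H k A = A}
  one_mem' := ⟨act_one H _, move_one H _, move_one H _⟩
  mul_mem' := by
    rintro x y ⟨a1, a2, a3⟩ ⟨b1, b2, b3⟩
    exact ⟨by rw [act_mul, b1, a1], by rw [move_mul, b2, a2], by rw [move_mul, b3, a3]⟩
  inv_mem' := by
    rintro x ⟨a1, a2, a3⟩
    refine ⟨?_, ?_, ?_⟩
    · conv_lhs => rw [← a1]
      exact act_inv H x _
    · conv_lhs => rw [← a2]
      rw [← move_mul, inv_mul_cancel, move_one]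
    · conv_lhs => rw [← a3]
      rw [← move_mul, inv_mul_cancel, move_one]

theorem meet_of_two {P : Sylow 2 Γ} (hP : Good H 2 P)
    (hPN : (P : Subgroup Γ) ≤ Subgroup.normalizer (H.ι.range : Set Γ)) (h8 : 8 ≤ Fintype.card F)
    {g : Γ} {v : M} (hv : v ≠ 0) (hv0 : v ∈ W0 F) (hvg : v ∈ move H g (W0 F)) :
    move H g (W0 F) = W0 F := by
  classical
  haveI := Fintype.ofFinite Γ
  by_contra hne
  obtain ⟨c1, rfl⟩ : ∃ c1, v = ![c1, 0] := ⟨_, eq_of_mem_W0 hv0⟩
  have hc1 : c1 ≠ 0 := fun h => hv (by rw [h]; simp)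
  obtain ⟨T, hT⟩ : ∃ T : Finset Γ,
      T = Finset.univ.filter fun i => IsRoot H i ∧ (![c1, 0] : M) ∈ ax H i ∧ ax H i ≠ W0 F := ⟨_, rfl⟩
  have memT : ∀ i, i ∈ T ↔ IsRoot H i ∧ (![c1, 0] : M) ∈ ax H i ∧ ax H i ≠ W0 F := fun i => by
    rw [hT, Finset.mem_filter]; exact ⟨fun h => h.2, fun h => ⟨Finset.mem_univ _, h⟩⟩
  obtain ⟨𝒜, h𝒜⟩ : ∃ 𝒜, 𝒜 = T.image (ax H) := ⟨_, rfl⟩
  have hne𝒜 : 𝒜.Nonempty := by
    refine ⟨move H g (W0 F), h𝒜 ▸ Finset.mem_image.mpr ⟨g * u H 1 * g⁻¹, (memT _).mpr ?_, ax_root H one_ne_zero⟩⟩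
    rw [ax_root H one_ne_zero]
    exact ⟨(isRoot_u H one_ne_zero).conj H g, hvg, hne⟩
  have hmap : ∀ i ∈ T, move H i (W0 F) ∈ 𝒜 := by
    intro i hi
    obtain ⟨hr, hvi, hni⟩ := (memT i).mp hi
    refine h𝒜 ▸ Finset.mem_image.mpr ⟨i * u H 1 * i⁻¹, (memT _).mpr ?_, ax_root H one_ne_zero⟩
    rw [ax_root H one_ne_zero]
    refine ⟨(isRoot_u H one_ne_zero).conj H i, ⟨_, hv0, ?_⟩, move_root_ne H hP hr hni⟩
    exact (fix_root H hr _).mpr hvi
  have hsize : 𝒜.card * (Fintype.card F - 1) ≤ T.card := by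
    rw [Finset.card_eq_sum_card_fiberwise (f := ax H) (t := 𝒜)
      (fun i hi => h𝒜 ▸ Finset.mem_image_of_mem _ hi), ← smul_eq_mul]
    refine Finset.card_nsmul_le_sum _ _ _ fun A hA => ?_
    obtain ⟨i, hi, rfl⟩ := Finset.mem_image.mp (h𝒜 ▸ hA)
    obtain ⟨hr, hvi, hni⟩ := (memT i).mp hi
    obtain ⟨a, c, hc, rfl⟩ := hr
    rw [ax_root H hc] at hvi hni ⊢
    have hsub : (Finset.univ.filter fun c : F => c ≠ 0).image (fun c => a * u H c * a⁻¹) ⊆
        T.filter fun j => ax H j = move H a (W0 F) := by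
      intro j hj
      obtain ⟨d, hd, rfl⟩ := Finset.mem_image.mp hj
      have hd' : d ≠ 0 := (Finset.mem_filter.mp hd).2
      refine Finset.mem_filter.mpr ⟨(memT _).mpr ?_, ax_root H hd'⟩
      rw [ax_root H hd']
      exact ⟨(isRoot_u H hd').conj H a, hvi, hni⟩
    refine le_trans ?_ (Finset.card_le_card hsub)
    rw [Finset.card_image_of_injective _ fun x y h => u_injective H (mul_left_cancel (mul_right_cancel h)),
      Finset.filter_ne', Finset.card_erase_of_mem (Finset.mem_univ _), Finset.card_univ]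
  obtain ⟨A, hA, hAc⟩ : ∃ A ∈ 𝒜, Fintype.card F - 1 ≤ (T.filter fun i => move H i (W0 F) = A).card :=
    Finset.exists_le_card_fiber_of_mul_le_card_of_maps_to hmap hne𝒜 hsize
  obtain ⟨i0, hi0⟩ := Finset.card_pos.mp (lt_of_lt_of_le (show 0 < Fintype.card F - 1 by omega) hAc)
  obtain ⟨hi0T, hi0A⟩ := Finset.mem_filter.mp hi0
  obtain ⟨hr0, hv00, hn0⟩ := (memT i0).mp hi0T
  have hAW : A ≠ W0 F := by
    obtain ⟨j, hj, rfl⟩ := Finset.mem_image.mp (h𝒜 ▸ hA)
    exact ((memT j).mp hj).2.2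
  have hfixv : ∀ i ∈ T, H.ρ i ![c1, 0] = ![c1, 0] := fun i hi =>
    (fix_root H ((memT i).mp hi).1 _).mpr ((memT i).mp hi).2.1
  have hswap : ∀ i ∈ T, move H i (W0 F) = A → move H i A = W0 F := by
    intro i hi h
    rw [← h, ← move_mul, IsRoot.sq_eq_one H ((memT i).mp hi).1, move_one]
  obtain ⟨K, hK⟩ : ∃ K, K = stab3 H c1 A := ⟨_, rfl⟩
  have memK : ∀ k, k ∈ K ↔ H.ρ k ![c1, 0] = ![c1, 0] ∧ move H k (W0 F) = W0 F ∧ move H k A = A :=
    fun k => by rw [hK]; rfl
  have hKc : Fintype.card F - 1 ≤ Nat.card K := by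
    refine hAc.trans ?_
    rw [← Finset.card_image_of_injective _ (mul_left_injective i0)]
    rw [Nat.card_eq_fintype_card, Fintype.card_subtype]
    refine Finset.card_le_card fun k hk => ?_
    obtain ⟨i, hi, rfl⟩ := Finset.mem_image.mp hk
    obtain ⟨hiT, hiA⟩ := Finset.mem_filter.mp hi
    refine Finset.mem_filter.mpr ⟨Finset.mem_univ _, (memK _).mpr ⟨?_, ?_, ?_⟩⟩
    · rw [act_mul, hfixv i0 hi0T, hfixv i hiT]
    · rw [move_mul, hi0A, hswap i hiT hiA]
    · rw [move_mul, hswap i0 hi0T hi0A, hiA]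
  have hnorm : ∀ k ∈ K, ∀ d, ∃ d', k * u H d * k⁻¹ = u H d' := by
    intro k hk d
    have e : conjU H k = U H := by
      rw [← conjU_one H]
      exact conjU_eq_of_move H hP (by rw [((memK k).mp hk).2.1, move_one])
    have h : k * u H d * k⁻¹ ∈ conjU H k := (mem_conjU H).mpr (by simpa [mul_assoc] using u_mem H d)
    rw [e] at h
    obtain ⟨d', hd'⟩ := (mem_U H).mp h
    exact ⟨d', hd'.symm⟩
  have hshape : ∀ k : K, ∃ (τ : F ≃+* F) (α β : F), β ≠ 0 ∧ α * τ c1 = c1 ∧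
      (∀ y : F, H.ρ (k : Γ) ![y, 0] = ![α * τ y, 0]) ∧ ∀ w : M, H.ρ (k : Γ) w 1 = β * τ (w 1) := by
    intro k
    obtain ⟨τ, α, β, -, hβ, h0, h1⟩ := exists_shape H (hnorm k k.2)
    refine ⟨τ, α, β, hβ, ?_, h0, h1⟩
    simpa using congrFun ((h0 c1).symm.trans ((memK k).mp k.2).1) 0
  choose τ α β hβ hα h0 h1 using hshape
  have huniq : ∀ (k : K) (σ : F ≃+* F) (a : F), a ≠ 0 → (∀ y : F, H.ρ (k : Γ) ![y, 0] = ![a * σ y, 0]) → τ k = σ := by
    intro k σ a ha h
    refine RingEquiv.ext fun y => ?_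
    have e : ∀ y, α k * τ k y = a * σ y := fun y => by
      simpa using congrFun ((h0 k y).symm.trans (h y)) 0
    have e1 := e 1
    rw [map_one, map_one, mul_one, mul_one] at e1
    have e2 := e y
    rw [e1] at e2
    exact mul_left_cancel₀ ha e2
  have hαne : ∀ k : K, α k ≠ 0 := fun k h => hc1 (by rw [← hα k, h, zero_mul])
  let θ : K →* RingAut F := MonoidHom.mk' τ fun k k' => by
    refine huniq _ _ (α k * τ k (α k')) (mul_ne_zero (hαne k) (by simp [hαne k'])) fun y => ?_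
    rw [Subgroup.coe_mul, act_mul, h0, h0, map_mul, mul_assoc]
    rfl
  have hker : ∀ k : K, θ k = 1 → (∀ w ∈ W0 F, H.ρ (k : Γ) w = w) ∧ ∀ w : M, H.ρ (k : Γ) w 1 = β k * w 1 := by
    intro k hk
    have hτ : τ k = RingEquiv.refl F := hk
    have ha : α k = 1 := by
      have h := hα k
      rw [hτ] at h
      exact mul_right_cancel₀ hc1 (h.trans (one_mul c1).symm)
    refine ⟨fun w hw => ?_, fun w => by rw [h1, hτ]; rfl⟩
    rw [eq_of_mem_W0 hw, h0, hτ, ha, one_mul]; rfl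
  have hU : ∀ k : K, (k : Γ) ∈ flag H (W0 F) → k = 1 := by
    intro k hk
    by_contra hk1
    obtain ⟨d, hd⟩ := (mem_U H).mp (flag_le_U H hP hPN hk)
    have hd0 : d ≠ 0 := fun h => hk1 (Subtype.ext (by rw [← hd, h, u_zero]; rfl))
    have hr : IsRoot H (i0 * (k : Γ) * i0⁻¹) := (hd ▸ isRoot_u H hd0).conj H i0
    refine move_root_ne H hP hr ?_ ?_
    · rw [ax_conj, ← hd, ax_u H hd0, hi0A]; exact hAW
    · have e : i0⁻¹ = i0 := inv_eq_of_mul_eq_one_right (IsRoot.sq_eq_one H hr0)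
      rw [e, move_mul, move_mul, hi0A, ((memK k).mp k.2).2.2, hswap i0 hi0T hi0A]
  have hconjK : ∀ k ∈ K, i0 * k * i0⁻¹ ∈ K := by
    intro k hk
    obtain ⟨a1, a2, a3⟩ := (memK k).mp hk
    have e : i0⁻¹ = i0 := inv_eq_of_mul_eq_one_right (IsRoot.sq_eq_one H hr0)
    rw [e, memK]
    refine ⟨?_, ?_, ?_⟩
    · rw [act_mul, act_mul, hfixv i0 hi0T, a1, hfixv i0 hi0T]
    · rw [move_mul, move_mul, hi0A, a3, hswap i0 hi0T hi0A]
    · rw [move_mul, move_mul, hswap i0 hi0T hi0A, a2, hi0A]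
  let ψ : θ.ker →* RingAut F := MonoidHom.mk' (fun k => θ ⟨i0 * ((k : K) : Γ) * i0⁻¹, hconjK _ (k : K).2⟩) fun k k' => by
    rw [← map_mul]
    refine congrArg θ (Subtype.ext ?_)
    simp [mul_assoc]
  have hψ : Function.Injective ψ := by
    refine (injective_iff_map_eq_one ψ).mpr fun k hk => ?_
    obtain ⟨f1, f2⟩ := hker k k.2
    obtain ⟨g1, -⟩ := hker _ hk
    have hfixA : ∀ w ∈ A, H.ρ ((k : K) : Γ) w = w := by
      intro w hw
      rw [← hi0A] at hw
      obtain ⟨w', hw', rfl⟩ := hw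
      have h : H.ρ (i0 * ((k : K) : Γ) * i0⁻¹) w' = w' := g1 w' hw'
      have e : i0⁻¹ = i0 := inv_eq_of_mul_eq_one_right (IsRoot.sq_eq_one H hr0)
      rw [e, act_mul, act_mul] at h
      have h2 := congrArg (H.ρ i0) h
      rwa [← act_mul, IsRoot.sq_eq_one H hr0, act_one] at h2
    obtain ⟨w, hw, hw1⟩ : ∃ w ∈ A, w 1 ≠ 0 := by
      by_contra hcon
      push Not at hcon
      refine hAW ?_
      rw [← hi0A]
      exact move_eq_of_le H fun w hw => hcon w (hi0A ▸ hw)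
    have hb : β (k : K) = 1 := by
      have h := f2 w
      rw [hfixA w hw] at h
      exact mul_right_cancel₀ hw1 (h.symm.trans (one_mul _).symm)
    refine Subtype.ext (hU _ ⟨f1, fun w => ?_⟩)
    rw [mem_W0, Pi.sub_apply, f2, hb, one_mul, sub_self]
  let χ : θ.ker →* Fˣ := MonoidHom.mk' (fun k => Units.mk0 (β (k : K)) (hβ _)) fun k k' => Units.ext (by
    have h := (hker _ (k * k').2).2 ![0, 1]
    rw [Subgroup.coe_mul, Subgroup.coe_mul, act_mul, (hker _ k.2).2, (hker _ k'.2).2] at h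
    simpa [mul_assoc] using h.symm)
  have hχ : Function.Injective χ := by
    refine (injective_iff_map_eq_one χ).mpr fun k hk => ?_
    obtain ⟨f1, f2⟩ := hker k k.2
    have hb : β (k : K) = 1 := congrArg Units.val hk
    refine Subtype.ext (hU _ ⟨f1, fun w => ?_⟩)
    rw [mem_W0, Pi.sub_apply, f2, hb, one_mul, sub_self]
  obtain ⟨e, -, he⟩ := FiniteField.card F 2
  obtain ⟨hcyc, hcard⟩ := Classical.PSLAut.card_ringAut (F := F) (p := 2) he
  haveI : Finite (RingAut F) := Nat.finite_of_card_ne_zero (by rw [hcard]; exact e.pos.ne')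
  have d1 : Nat.card θ.ker ∣ (e : ℕ) := hcard ▸ Subgroup.card_dvd_of_injective ψ hψ
  have d2 : Nat.card θ.ker ∣ 2 ^ (e : ℕ) - 1 := by
    have h := Subgroup.card_dvd_of_injective χ hχ
    rwa [Nat.card_units, Nat.card_eq_fintype_card (α := F), he] at h
  have h3 : Nat.card K ≤ Nat.gcd e (2 ^ (e : ℕ) - 1) * e := by
    rw [Subgroup.card_eq_card_quotient_mul_card_subgroup θ.ker, Nat.mul_comm]
    refine Nat.mul_le_mul (Nat.le_of_dvd (Nat.gcd_pos_of_pos_left _ e.pos) (Nat.dvd_gcd d1 d2)) ?_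
    rw [Nat.card_congr (QuotientGroup.quotientKerEquivRange θ).toEquiv]
    exact (Nat.card_le_card_of_injective _ θ.range.subtype_injective).trans hcard.le
  have he3 : 3 ≤ (e : ℕ) := by
    by_contra h
    push Not at h
    have := Nat.pow_le_pow_right (show 1 ≤ 2 by norm_num) (show (e : ℕ) ≤ 2 by omega)
    omega
  have := gcd_mul_lt he3
  omega

end Cfsg.Agent.Fus.NatSL
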