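import Mathlib
import Cfsg.Agent.Lib.Fus.NatSL.MeetOdd
import Cfsg.Agent.Lib.Fus.NatSL.MeetTwo
import Cfsg.Agent.Lib.Fus.NatSL.Four

/-!
A linear group containing the natural `SL(2, F)` and having a Sylow subgroup in its normaliser has it as a
normal subgroup, except for `A₇` over four elements.
-/

set_option autoImplicit false
set_option linter.unusedSectionVars false

namespace Cfsg.Agent.Fus.NatSL

open Matrix Cfsg.Agent.Grp

universe u v

variable {F : Type u} [Field F] [Fintype F] {Γ : Type v} [Group Γ] [Finite Γ] (H : Setup F Γ)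
variable (p : ℕ) [Fact p.Prime] [CharP F p]

local notation "M" => (Fin 2 → F)

theorem meet_of_base
    (hb : ∀ (g : Γ) (v : M), v ≠ 0 → v ∈ W0 F → v ∈ move H g (W0 F) → move H g (W0 F) = W0 F)
    (g h : Γ) (v : M) (hv : v ≠ 0) (hg : v ∈ move H g (W0 F)) (hh : v ∈ move H h (W0 F)) :
    move H g (W0 F) = move H h (W0 F) := by
  have hne : H.ρ g⁻¹ v ≠ 0 := fun e => hv (by rw [← act_inv' H g v, e, map_zero])
  have h2 := hb (g⁻¹ * h) _ hne ((mem_move H).mp hg) (by
    rw [mem_move, _root_.mul_inv_rev, inv_inv, act_mul, act_inv' H g v]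
    exact (mem_move H).mp hh)
  have h3 := congrArg (move H g) h2
  rwa [← move_mul, mul_inv_cancel_left, eq_comm] at h3

theorem card_W0 : Nat.card (W0 F) = Fintype.card F := by
  rw [← Nat.card_eq_fintype_card]
  exact Nat.card_congr
    { toFun := fun v => (v : M) 0
      invFun := fun y => ⟨![y, 0], line_mem y⟩
      left_inv := fun v => Subtype.ext (eq_of_mem_W0 v.2).symm
      right_inv := fun y => rfl }

theorem meet_of_prime (hq : (Fintype.card F).Prime) {g : Γ} {v : M} (hv : v ≠ 0) (hv0 : v ∈ W0 F)
    (hvg : v ∈ move H g (W0 F)) : move H g (W0 F) = W0 F := by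
  haveI := Fact.mk hq
  have h0 := card_W0 (F := F)
  have hg : Nat.card (move H g (W0 F)) = Fintype.card F := by
    rw [← h0]
    exact (Nat.card_congr ((W0 F).equivMapOfInjective (act H g)
      (Function.LeftInverse.injective fun w => act_inv H g w)).toEquiv).symm
  have key : ∀ A : AddSubgroup M, Nat.card A = Fintype.card F → v ∈ A → AddSubgroup.zmultiples v = A := by
    intro A hA hvA
    have hle : AddSubgroup.zmultiples v ≤ A := AddSubgroup.zmultiples_le_of_mem hvA
    have hd := AddSubgroup.card_dvd_of_le hle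
    rw [hA] at hd
    rcases (Nat.dvd_prime hq).mp hd with h | h
    · exact absurd (AddSubgroup.mem_bot.mp ((AddSubgroup.card_eq_one.mp h) ▸ AddSubgroup.mem_zmultiples v)) hv
    · refine SetLike.coe_injective (Set.eq_of_subset_of_ncard_le hle ?_ (Set.toFinite _))
      rw [← Nat.card_coe_set_eq, ← Nat.card_coe_set_eq]
      exact le_of_eq (hA.trans h.symm)
  rw [← key _ hg hvg, key _ h0 hv0]

/-- Normality of the natural special linear group, or the alternating group of degree seven. -/
theorem normal_or_alt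
    (hsyl : ∀ S : Sylow p ↥(Subgroup.normalizer (H.ι.range : Set Γ)), ∀ Q : Sylow p Γ, Nat.card S = Nat.card Q) :
    H.ι.range.Normal ∨ (Fintype.card F = 4 ∧ Nonempty (Γ ≃* alternatingGroup (Fin 7))) := by
  obtain ⟨P, hU, hPN⟩ := exists_sylow H p hsyl
  by_cases hp : p = 2
  · subst hp
    obtain ⟨e, -, he⟩ := FiniteField.card F 2
    by_cases h4 : Fintype.card F = 4
    · rcases normal_or_alt_of_four H h4 P hU hPN with h | h
      · exact Or.inl h
      · exact Or.inr ⟨h4, h⟩
    refine Or.inl ?_
    by_cases h8 : 8 ≤ Fintype.card F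
    · exact normal_of_meet H (good_of_two H P hU hPN h8) (meet_of_base H fun g v hv h0 hg =>
        meet_of_two H (good_of_two H P hU hPN h8) hPN h8 hv h0 hg)
    have h2 : Fintype.card F = 2 := by
      rw [he] at h4 h8 ⊢
      have : (e : ℕ) < 3 := by
        by_contra h
        push Not at h
        have := Nat.pow_le_pow_right (show 1 ≤ 2 by norm_num) h
        omega
      have := e.pos
      interval_cases (e : ℕ) <;> omega
    have hgood : Good H 2 P := ⟨hU, fun x hx _ => by
      obtain ⟨τ, hτ⟩ := semi_of_mem H hPN hx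
      obtain ⟨-, hc⟩ := Classical.PSLAut.card_ringAut (F := F) (p := 2) (f := 1) (by rw [h2, pow_one])
      haveI := (Nat.card_eq_one_iff_unique.mp hc).1
      exact mem_U_of_linear H P hU hx (Subsingleton.elim τ (RingEquiv.refl F) ▸ hτ)⟩
    exact normal_of_meet H hgood (meet_of_base H fun g v hv h0 hg =>
      meet_of_prime H (h2 ▸ Nat.prime_two) hv h0 hg)
  · exact Or.inl (normal_of_meet H (good_of_odd H hp P hU hPN) (meet_of_base H fun g v hv h0 hg =>
      meet_of_odd H hp (good_of_odd H hp P hU hPN) hv h0 hg))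

end Cfsg.Agent.Fus.NatSL
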